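import Cfsg.Agent.Lib.LocalEven.BenderTransitive.OddConfig
import Cfsg.Agent.Lib.OddOrder.SylowLocal

/-!
# The Fitting subgroup of a maximal subgroup of odd order transitive on involutions

The Fitting subgroup of `N` in an `OddConfig` is not a `p`-group (Glauberman's `ZJ` theorem).
-/

set_option autoImplicit false

namespace CfsgLib.LocalEven.BenderTransitive

open Subgroup CfsgLib.Solvable CfsgLib.Involution.Dihedral

variable {X : Type*} [Group X]

/-- `O_r(N)` inside the ambient group. -/
def fcore (r : ℕ) (N : Subgroup X) : Subgroup X := (Cfsg.pCore r N).map N.subtype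

theorem fcore_le (r : ℕ) (N : Subgroup X) : fcore r N ≤ N := map_subtype_le _

theorem isPGroup_fcore (r : ℕ) (N : Subgroup X) : IsPGroup r (fcore r N) :=
  (Cores.isPGroup_pCore r).map _

theorem le_normalizer_fcore (r : ℕ) (N : Subgroup X) : N ≤ normalizer (fcore r N : Set X) := by
  have h : (normalizer (Cfsg.pCore r N : Set N)).map N.subtype ≤ normalizer (fcore r N : Set X) :=
    le_normalizer_map _
  rwa [normalizer_eq_top, ← MonoidHom.range_eq_map, range_subtype] at h

theorem fcore_ne_bot {r : ℕ} {N : Subgroup X} (h : Cfsg.pCore r N ≠ ⊥) : fcore r N ≠ ⊥ :=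
  fun e => h ((map_eq_bot_iff_of_injective _ N.subtype_injective).1 e)

theorem commutator_fcore_eq_bot {p q : ℕ} [Fact p.Prime] [Fact q.Prime] (hpq : p ≠ q)
    (N : Subgroup X) : ⁅fcore p N, fcore q N⁆ = ⊥ := by
  rw [fcore, fcore, ← map_commutator, map_eq_bot_iff_of_injective _ N.subtype_injective, ← le_bot_iff,
    ← disjoint_iff.1 ((Cores.isPGroup_pCore (G := N) p).disjoint_of_ne p q hpq _ _
      (Cores.isPGroup_pCore q))]
  exact commutator_le_inf _ _

variable [Finite X]

/-- A normal subgroup of a solvable group whose order is prime to the Fitting primes is trivial. -/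
theorem eq_bot_of_coprime_fitting {G : Type*} [Group G] [Finite G] [Group.IsSolvable G]
    (K : Subgroup G) [K.Normal]
    (h : ∀ q : ℕ, q.Prime → Cfsg.pCore q G ≠ ⊥ → (Nat.card K).Coprime q) : K = ⊥ := by
  by_contra hne
  haveI := (nontrivial_iff_ne_bot K).2 hne
  apply Cores.fittingSubgroup_ne_bot (G := K)
  rw [Cores.fittingSubgroup_eq_iSup_pCore, iSup_eq_bot]
  intro q
  haveI := Fact.mk q.2
  refine (map_eq_bot_iff_of_injective _ K.subtype_injective).1 ?_
  by_cases hq : Cfsg.pCore (q : ℕ) G = ⊥
  · exact le_bot_iff.1 ((Cores.map_pCore_le (q : ℕ) K).trans hq.le)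
  · have h1 : Cfsg.pCore (q : ℕ) K = ⊥ := by
      obtain ⟨n, hn⟩ := (Cores.isPGroup_pCore (G := K) (q : ℕ)).exists_card_eq
      refine eq_bot_of_card_eq _ ?_
      rw [hn]
      rcases n with _ | n
      · exact pow_zero _
      · exact absurd ((dvd_pow_self (q : ℕ) n.succ_ne_zero).trans (hn ▸ card_subgroup_dvd_card _))
          (q.2.coprime_iff_not_dvd.1 (h _ q.2 hq).symm)
    rw [h1, Subgroup.map_bot]

namespace OddConfig

variable {N : Subgroup X} {z : X} (c : OddConfig N z)

include c in
theorem notMem : z ∉ N := fun h => by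
  have h1 := c.odd.of_dvd_nat (orderOf_dvd_natCard N h)
  rw [c.inv] at h1
  exact absurd h1 (by decide)

include c in
theorem ne_bot : N ≠ ⊥ := by
  intro h
  obtain ⟨w, hw, hwz, -⟩ := c.other
  obtain ⟨n, hn, e⟩ := c.trans w hw
  rw [h, mem_bot] at hn
  rw [hn, one_mul, inv_one, mul_one] at e
  exact hwz e.symm

include c in
theorem exists_fitting_prime [Group.IsSolvable N] : ∃ p : ℕ, p.Prime ∧ Cfsg.pCore p N ≠ ⊥ := by
  by_contra h
  push Not at h
  haveI := (nontrivial_iff_ne_bot N).2 c.ne_bot
  apply Cores.fittingSubgroup_ne_bot (G := N)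
  rw [Cores.fittingSubgroup_eq_iSup_pCore, iSup_eq_bot]
  exact fun q => h q q.2

include c in
/-- The Fitting subgroup of `N` is not a `p`-group. -/
theorem exists_second_fitting_prime [Group.IsSolvable N] {p : ℕ} [hp : Fact p.Prime]
    (hpN : Cfsg.pCore p N ≠ ⊥) : ∃ q : ℕ, q.Prime ∧ q ≠ p ∧ Cfsg.pCore q N ≠ ⊥ := by
  by_contra hall
  push Not at hall
  have hO : Cfsg.pPrimeCore p N = ⊥ := eq_bot_of_coprime_fitting _ fun q hq hqN => by
    obtain rfl : q = p := by_contra fun hne => hqN (hall q hq hne)
    exact Cores.coprime_card_pPrimeCore _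
  obtain ⟨k, hk⟩ := (Cores.isPGroup_pCore (G := N) p).exists_card_eq
  have hk0 : k ≠ 0 := fun e => hpN (eq_bot_of_card_eq _ (by rw [hk, e, pow_zero]))
  have hp2 : p ≠ 2 := c.prime_ne_two
    ((dvd_pow_self p hk0).trans (hk ▸ card_subgroup_dvd_card _))
  -- the normaliser of `Z(J(S))`
  have hZ : ∀ S : Sylow p N,
      normalizer (Cfsg.centerThompsonOf p ((S : Subgroup N).map N.subtype) : Set X) = N := by
    intro S
    have hS1 : (S : Subgroup N) ≠ ⊥ := fun e => hpN (le_bot_iff.1 (e ▸ Cores.pCore_le_sylow S))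
    have hn := OddOrder.ZJ.centerThompson_normal c.odd hp2 hO S
    rw [← OddOrder.SylowLocal.map_centerThompsonOf N.subtype N.subtype_injective]
    refine c.normalizer_eq (map_subtype_le _) (r := p) ?_ ?_ ?_
    · exact (S.isPGroup'.to_le
        (inf_le_left.trans (Fusion.Thompson.thompsonSubgroupOf_le _))).map _
    · exact fun e => OddOrder.SylowLocal.centerThompsonOf_ne_bot S.isPGroup' hS1
        ((map_eq_bot_iff_of_injective _ N.subtype_injective).1 e)
    · have h := le_normalizer_map (H := Cfsg.centerThompsonOf p (S : Subgroup N)) N.subtype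
      rwa [normalizer_eq_top, ← MonoidHom.range_eq_map, range_subtype] at h
  -- a Sylow subgroup of `N` is a Sylow subgroup of the whole group
  have hfull : ∀ S : Sylow p N, ∀ P : Sylow p X, (S : Subgroup N).map N.subtype ≤ P →
      (P : Subgroup X) = (S : Subgroup N).map N.subtype := by
    intro S P hSP
    set SX := (S : Subgroup N).map N.subtype
    rcases hSP.eq_or_lt with e | e
    · exact e.symm
    exfalso
    have h1 := Coprime.lt_normalizer_inf_of_lt P.isPGroup' e
    set W := (P : Subgroup X) ⊓ normalizer (SX : Set X)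
    have hWN : W ≤ N := inf_le_right.trans
      ((OddOrder.ZJ.centerThompsonOf_normalizer SX).trans (hZ S).le)
    obtain ⟨R, hR⟩ :=
      ((P.isPGroup'.to_le inf_le_left : IsPGroup p W).of_equiv
        (subgroupOfEquivOfLe hWN).symm).exists_le_sylow
    have h2 : Nat.card W ≤ Nat.card SX := by
      rw [← Nat.card_congr (subgroupOfEquivOfLe hWN).toEquiv, Coprime.card_map_subtype,
        S.card_eq_multiplicity, ← R.card_eq_multiplicity]
      exact card_le_of_le hR
    exact h1.not_ge (eq_of_le_of_card_ge h1.le h2).ge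
  -- the involution normalises a Sylow subgroup of `N`
  obtain ⟨S', hS'⟩ : ∃ S' : Sylow p N,
      z ∈ normalizer (((S' : Subgroup N).map N.subtype : Subgroup X) : Set X) := by
    rcases c.sylowOr p hp.out with ⟨R, hR⟩ | hnd
    · let S : Sylow p N := default
      obtain ⟨P, hP⟩ := (S.isPGroup'.map N.subtype).exists_le_sylow
      have hPS := hfull S P hP
      obtain ⟨g, hg⟩ := MulAction.exists_smul_eq X R P
      obtain ⟨n, hn, k, hk, rfl⟩ := c.factor g
      set R' := (R : Subgroup X).map (MulAut.conj k).toMonoidHom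
      have hzR : z ∈ normalizer (R' : Set X) := by
        rw [map_conj_normalizer, mem_map_conj, mul_assoc, ← hk.eq, ← mul_assoc, inv_mul_cancel,
          one_mul]
        exact hR
      have hPR : (P : Subgroup X) = (R : Subgroup X).map (MulAut.conj (n * k)).toMonoidHom := by
        rw [← hg, Sylow.coe_subgroup_smul]; rfl
      have hR'N : R' ≤ N := by
        intro x hx
        have h1 : n * x * n⁻¹ ∈ (P : Subgroup X) := by
          rw [hPR, mem_map_conj]
          rw [mem_map_conj] at hx
          convert hx using 1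
          group
        rw [hPS] at h1
        have h2 := mul_mem (mul_mem (inv_mem hn) (map_subtype_le _ h1)) hn
        rwa [show n⁻¹ * (n * x * n⁻¹) * n = x by group] at h2
      obtain ⟨S', hS'⟩ := Coprime.exists_sylow_map_eq hR'N (p := p) (by
        rw [Coprime.card_conj_map, ← S.card_eq_multiplicity, ← Coprime.card_map_subtype,
          ← hPS, hPR, Coprime.card_conj_map])
      exact ⟨S', hS'.symm ▸ hzR⟩
    · set M := N ⊓ N.map (MulAut.conj z).toMonoidHom
      obtain ⟨T, hT⟩ := Coprime.exists_invariant_sylow (A := zpowers z) (K := M)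
        (zpowers_le.2 c.mem_normalizer_inf)
        (by
          rw [Nat.card_zpowers, c.inv]
          exact Nat.coprime_two_left.2 (c.odd.of_dvd_nat (card_dvd_of_le inf_le_left)))
        (.inl (Coprime.isSolvable_zpowers z)) p
      obtain ⟨S', hS'⟩ := Coprime.exists_sylow_map_eq
        ((map_subtype_le (T : Subgroup M)).trans (inf_le_left : M ≤ N)) (p := p) (by
          rw [Coprime.card_map_subtype, T.card_eq_multiplicity,
            factorization_card_eq inf_le_left hp.out hnd])
      exact ⟨S', hS'.symm ▸ hT (mem_zpowers z)⟩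
  exact c.notMem ((hZ S').le (OddOrder.ZJ.centerThompsonOf_normalizer _ hS'))

end OddConfig

end CfsgLib.LocalEven.BenderTransitive
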