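import Cfsg.Agent.Lib.Coprime.Sylow
import Cfsg.Agent.Lib.Coprime.Generation
import Cfsg.Agent.Lib.Involution.Dihedral
import Cfsg.Agent.Lib.Involution.TwoGroupLifts

/-!
# Involutions acting on subgroups of odd order

Sylow subgroups invariant under an involution `z` and the indices `|Y : C_Y(z)|`.
-/

set_option autoImplicit false

namespace CfsgLib.LocalEven.BenderTransitive

open Subgroup CfsgLib.Involution.Dihedral

variable {G : Type*} [Group G]

theorem conj_mem_of_mem_normalizer {Y : Subgroup G} {g x : G} (hg : g ∈ normalizer (Y : Set G))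
    (hx : x ∈ Y) : g * x * g⁻¹ ∈ Y :=
  (mem_normalizer_iff.1 hg x).1 hx

theorem conj_inv_mem_of_mem_normalizer {Y : Subgroup G} {g x : G}
    (hg : g ∈ normalizer (Y : Set G)) (hx : x ∈ Y) : g⁻¹ * x * g ∈ Y := by
  simpa using conj_mem_of_mem_normalizer (inv_mem hg) hx

theorem mem_normalizer_inf' {g : G} {A B : Subgroup G} (hA : g ∈ normalizer (A : Set G))
    (hB : g ∈ normalizer (B : Set G)) : g ∈ normalizer ((A ⊓ B : Subgroup G) : Set G) :=
  inf_normalizer_le_normalizer_inf ⟨hA, hB⟩

variable [Finite G]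

theorem coprime_zpowers {z : G} {D : Subgroup G} (hz : orderOf z = 2) (hD : Odd (Nat.card D)) :
    (Nat.card (zpowers z)).Coprime (Nat.card D) := by
  rw [Nat.card_zpowers, hz]; exact Nat.coprime_two_left.2 hD

/-- An involution normalises a Sylow subgroup of a subgroup of odd order which it normalises. -/
theorem exists_inv_sylow {z : G} {D : Subgroup G} (hz : orderOf z = 2) (hD : Odd (Nat.card D))
    (hzD : z ∈ normalizer (D : Set G)) (p : ℕ) [Fact p.Prime] :
    ∃ P : Subgroup G, P ≤ D ∧ Nat.card P = p ^ (Nat.card D).factorization p ∧ IsPGroup p P ∧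
      z ∈ normalizer (P : Set G) := by
  obtain ⟨P, hP⟩ := Coprime.exists_invariant_sylow (A := zpowers z) (K := D) (zpowers_le.2 hzD)
    (coprime_zpowers hz hD) (.inl (Coprime.isSolvable_zpowers z)) p
  exact ⟨_, map_subtype_le _, by rw [Coprime.card_map_subtype, P.card_eq_multiplicity],
    P.isPGroup'.map _, hP (mem_zpowers z)⟩

/-- An invariant `p`-subgroup lies in an invariant Sylow subgroup. -/
theorem exists_inv_sylow_ge {z : G} {D Y : Subgroup G} (hz : orderOf z = 2)
    (hD : Odd (Nat.card D)) (hzD : z ∈ normalizer (D : Set G)) {p : ℕ} [Fact p.Prime]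
    (hYD : Y ≤ D) (hY : IsPGroup p Y) (hzY : z ∈ normalizer (Y : Set G)) :
    ∃ P : Subgroup G, Y ≤ P ∧ P ≤ D ∧ Nat.card P = p ^ (Nat.card D).factorization p ∧
      IsPGroup p P ∧ z ∈ normalizer (P : Set G) := by
  obtain ⟨P, hYP, hP⟩ := Coprime.exists_le_invariant_sylow (A := zpowers z) (K := D)
    (zpowers_le.2 hzD) (coprime_zpowers hz hD) (.inl (Coprime.isSolvable_zpowers z)) hYD hY
    (zpowers_le.2 hzY)
  exact ⟨_, hYP, map_subtype_le _, by rw [Coprime.card_map_subtype, P.card_eq_multiplicity],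
    P.isPGroup'.map _, hP (mem_zpowers z)⟩

omit [Finite G] in
theorem centralizer_zpowers_mem {z c : G} (hc : c ∈ centralizer (zpowers z : Set G)) :
    Commute c z :=
  (mem_centralizer_iff.1 hc z (mem_zpowers z)).symm

/-- Invariant Sylow subgroups are conjugate by a centralising element. -/
theorem exists_commute_conj {z : G} {D P Q : Subgroup G} (hz : orderOf z = 2)
    (hD : Odd (Nat.card D)) (hzD : z ∈ normalizer (D : Set G)) {p : ℕ} [Fact p.Prime]
    (hPD : P ≤ D) (hP : Nat.card P = p ^ (Nat.card D).factorization p)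
    (hzP : z ∈ normalizer (P : Set G)) (hQD : Q ≤ D)
    (hQ : Nat.card Q = p ^ (Nat.card D).factorization p) (hzQ : z ∈ normalizer (Q : Set G)) :
    ∃ c ∈ D, Commute c z ∧ P.map (MulAut.conj c).toMonoidHom = Q := by
  obtain ⟨P', rfl⟩ := Coprime.exists_sylow_map_eq hPD hP
  obtain ⟨Q', rfl⟩ := Coprime.exists_sylow_map_eq hQD hQ
  obtain ⟨c, hc, e⟩ := Coprime.exists_centralizer_conj_sylow (A := zpowers z) (K := D)
    (zpowers_le.2 hzD) (coprime_zpowers hz hD) (.inl (Coprime.isSolvable_zpowers z)) P' Q'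
    (zpowers_le.2 hzP) (zpowers_le.2 hzQ)
  exact ⟨c, c.2, centralizer_zpowers_mem hc, by rw [← Coprime.map_smul_sylow, e]⟩

/-- In an invariant Sylow subgroup the centraliser of the involution is a Sylow subgroup of the
centraliser in the whole group. -/
theorem relIndex_inv_sylow {z : G} {D P : Subgroup G} (hz : orderOf z = 2)
    (hD : Odd (Nat.card D)) (hzD : z ∈ normalizer (D : Set G)) {p : ℕ} [hp : Fact p.Prime]
    (hPD : P ≤ D) (hP : Nat.card P = p ^ (Nat.card D).factorization p)
    (hzP : z ∈ normalizer (P : Set G)) :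
    (centralizer ({z} : Set G)).relIndex P =
      p ^ ((centralizer ({z} : Set G)).relIndex D).factorization p := by
  set C := centralizer ({z} : Set G)
  obtain ⟨n, hn⟩ := (IsPGroup.of_card hP : IsPGroup p P).to_le
    (inf_le_left : P ⊓ C ≤ P) |>.exists_card_eq
  -- a Sylow subgroup of `C_D(z)` is conjugate into `P`
  have hCD : Nat.card ↥(P ⊓ C) = p ^ (Nat.card ↥(D ⊓ C)).factorization p := by
    let S : Sylow p ↥(D ⊓ C) := default
    set SX := (S : Subgroup ↥(D ⊓ C)).map (D ⊓ C).subtype
    have hSle : SX ≤ D ⊓ C := map_subtype_le _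
    have hzS : z ∈ normalizer (SX : Set G) := centralizer_le_normalizer _
      (mem_centralizer_iff.2 fun x hx => mem_centralizer_singleton_iff.1 (hSle hx).2)
    obtain ⟨Q, hSQ, hQD, hQ, -, hzQ⟩ := exists_inv_sylow_ge (p := p) hz hD hzD
      (hSle.trans inf_le_left) (S.isPGroup'.map _) hzS
    obtain ⟨c, -, hcz, e⟩ := exists_commute_conj hz hD hzD hQD hQ hzQ hPD hP hzP
    have h1 : SX.map (MulAut.conj c).toMonoidHom ≤ P ⊓ C := le_inf (e ▸ Subgroup.map_mono hSQ) (by
      rintro _ ⟨x, hx, rfl⟩
      have hxz : Commute x z := mem_centralizer_singleton_iff.1 (hSle hx).2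
      exact mem_centralizer_singleton_iff.2 ((hcz.mul_left hxz).mul_left hcz.inv_left).eq)
    have h2 := card_le_of_le h1
    rw [Coprime.card_conj_map, Coprime.card_map_subtype, S.card_eq_multiplicity] at h2
    refine le_antisymm (Nat.le_of_dvd (pow_pos hp.out.pos _) ?_) h2
    rw [hn]
    refine Nat.pow_dvd_pow p ((hp.out.pow_dvd_iff_le_factorization Nat.card_pos.ne').1 ?_)
    exact hn ▸ card_dvd_of_le (inf_le_inf_right C hPD)
  have h1 : Nat.card ↥(P ⊓ C) * C.relIndex P = Nat.card P := by
    rw [← inf_relIndex_left, Coprime.card_mul_relIndex' inf_le_left]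
  have h2 : Nat.card ↥(D ⊓ C) * C.relIndex D = Nat.card D := by
    rw [← inf_relIndex_left, Coprime.card_mul_relIndex' inf_le_left]
  have h0 : C.relIndex D ≠ 0 := fun e => Nat.card_pos.ne' (by rw [← h2, e, mul_zero])
  have h3 : (Nat.card D).factorization p =
      (Nat.card ↥(D ⊓ C)).factorization p + (C.relIndex D).factorization p := by
    rw [← h2, Nat.factorization_mul Nat.card_pos.ne' h0, Finsupp.add_apply]
  rw [hCD, hP, h3, pow_add] at h1
  exact Nat.eq_of_mul_eq_mul_left (pow_pos hp.out.pos _) h1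

omit [Finite G] in
theorem relIndex_centralizer_conj (z g : G) (Y : Subgroup G) :
    (centralizer ({g * z * g⁻¹} : Set G)).relIndex (Y.map (MulAut.conj g).toMonoidHom) =
      (centralizer ({z} : Set G)).relIndex Y := by
  have h : centralizer ({g * z * g⁻¹} : Set G) =
      (centralizer ({z} : Set G)).map (MulAut.conj g).toMonoidHom := by
    ext x
    rw [mem_map_equiv, mem_centralizer_singleton_iff, mem_centralizer_singleton_iff,
      MulAut.conj_symm_apply]
    constructor
    · intro h
      calc g⁻¹ * x * g * z = g⁻¹ * (x * (g * z * g⁻¹)) * g := by group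
        _ = g⁻¹ * ((g * z * g⁻¹) * x) * g := by rw [h]
        _ = z * (g⁻¹ * x * g) := by group
    · intro h
      calc x * (g * z * g⁻¹) = g * (g⁻¹ * x * g * z) * g⁻¹ := by group
        _ = g * (z * (g⁻¹ * x * g)) * g⁻¹ := by rw [h]
        _ = g * z * g⁻¹ * x := by group
  rw [h, relIndex_map_map_of_injective _ _ (MulAut.conj g).injective]

theorem relIndex_ne_zero' (C Y : Subgroup G) : C.relIndex Y ≠ 0 :=
  index_ne_zero_of_finite (H := C.subgroupOf Y)

theorem relIndex_mono (C : Subgroup G) {Y P : Subgroup G} (h : Y ≤ P) :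
    C.relIndex Y ≤ C.relIndex P :=
  relIndex_le_of_le_right h (relIndex_ne_zero' C P)

/-- If a subgroup has the full index, it supplements the centraliser. -/
theorem le_sup_of_relIndex_le (C : Subgroup G) {Y P : Subgroup G} (hYP : Y ≤ P)
    (h : C.relIndex P ≤ C.relIndex Y) : P ≤ Y ⊔ (P ⊓ C) := by
  set S := Y ⊔ (P ⊓ C)
  have hSP : S ≤ P := sup_le hYP inf_le_left
  have h1 : Nat.card ↥(S ⊓ C) * C.relIndex S = Nat.card S := by
    rw [← inf_relIndex_left, Coprime.card_mul_relIndex' inf_le_left]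
  have h2 : Nat.card ↥(P ⊓ C) * C.relIndex P = Nat.card P := by
    rw [← inf_relIndex_left, Coprime.card_mul_relIndex' inf_le_left]
  refine (eq_of_le_of_card_ge hSP ?_).ge
  rw [← h1, ← h2]
  exact Nat.mul_le_mul (card_le_of_le (le_inf le_sup_right inf_le_right))
    (h.trans (relIndex_mono C le_sup_left))

/-- A group of odd order is generated by the centralisers of the involutions of a four-group
acting on it. -/
theorem le_of_centralizer_four {Y K : Subgroup G} {v w : G} (hv : orderOf v = 2)
    (hw : orderOf w = 2) (hne : v ≠ w) (hvw : Commute v w) (hY : Odd (Nat.card Y))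
    (hvY : v ∈ normalizer (Y : Set G)) (hwY : w ∈ normalizer (Y : Set G))
    (h : ∀ s : G, s = v ∨ s = w ∨ s = v * w → Y ⊓ centralizer {s} ≤ K) : Y ≤ K := by
  set A := CfsgLib.Involution.TwoGroupLifts.fourGroup v w (mul_self hv) (mul_self hw) hvw.eq
  haveI hA : IsKleinFour A := CfsgLib.Involution.TwoGroupLifts.isKleinFour_of_four (ne_one hv)
    (ne_one hw) hne (mul_self hv) (mul_self hw) hvw.eq fun _ => Iff.rfl
  haveI : IsMulCommutative A := ⟨⟨mul_comm_of_exponent_two IsKleinFour.exponent_two⟩⟩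
  have hAY : A ≤ normalizer (Y : Set G) := by
    rintro g (rfl | rfl | rfl | rfl)
    exacts [one_mem _, hvY, hwY, mul_mem hvY hwY]
  have hcop : (Nat.card A).Coprime (Nat.card Y) := by
    rw [IsKleinFour.card_four, show (4 : ℕ) = 2 ^ 2 from rfl]
    exact (Nat.coprime_two_left.2 hY).pow_left 2
  rw [← Coprime.iSup_centralizer_singleton (A := A) IsKleinFour.not_isCyclic hAY hcop]
  refine iSup₂_le fun a ha => h a ?_
  rcases ha.1 with e | e
  · exact absurd e ha.2
  · exact e

end CfsgLib.LocalEven.BenderTransitive
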