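import Cfsg.Agent.Lib.LocalEven.BenderTransitive.Exception

/-!
# Consequences of intransitivity

If `H` is strongly embedded and not transitive on the other cosets, then every prime has a full
subgroup, and a prime with a bad pair divides `|G : H|`; for such a prime each involution
normalises a Sylow subgroup of the stabiliser of its fixed coset.
-/

set_option autoImplicit false

namespace CfsgLib.LocalEven.BenderTransitive

open Subgroup MulAction CfsgLib.Involution.Dihedral CfsgLib.Involution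

variable {G : Type*} [Group G] {H : Subgroup G}

/-- An invariant Sylow `p`-subgroup of `G_{a,b}` misses the fixed coset of the swapping
involution. -/
def Bad (H : Subgroup G) (p : ℕ) (a b : G ⧸ H) : Prop :=
  ∃ (u : G) (P : Subgroup G), orderOf u = 2 ∧ u • a = b ∧ P ≤ stab2 a b ∧
    Nat.card P = p ^ (Nat.card (stab2 a b)).factorization p ∧ u ∈ normalizer (P : Set G) ∧
    ∀ c : G ⧸ H, u • c = c → ¬ P ≤ stabilizer G c

/-- `H` is transitive on the cosets different from itself. -/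
def PairTransitive (H : Subgroup G) : Prop :=
  ∀ a b b' : G ⧸ H, b ≠ a → b' ≠ a → ∃ g : G, g • a = a ∧ g • b = b'

variable [Finite G] (hH : Cfsg.IsStronglyEmbedded H)

include hH

theorem sylow_two_fixed {p : ℕ} [hp : Fact p.Prime] {a b : G ⧸ H} (hab : a ≠ b)
    (hbad : Bad H p a b)
    (hcase : ¬ p ∣ Nat.card (G ⧸ H) ∨ ∀ a' b' : G ⧸ H, a' ≠ b' →
      (Nat.card (stab2 a' b')).factorization p ≤ (Nat.card (stab2 a b)).factorization p) :
    ∃ S : Sylow p G, ∀ x : G ⧸ H, (S : Subgroup G) ≤ stabilizer G x ↔ x = a ∨ x = b := by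
  obtain ⟨u, P, hu, hua, hP, hPc, huP, hout⟩ := hbad
  have hfix : ∀ x : G ⧸ H, P ≤ stabilizer G x ↔ x = a ∨ x = b := by
    refine fun x => ⟨fun hx => ?_, ?_⟩
    · by_contra hne
      push Not at hne
      refine Exception.false_of hH (u₀ := u) (Y₀ := P)
        ⟨hu, IsPGroup.of_card hPc, huP, (relIndex_sylow_swap hH hab hu hua hP hPc huP).ge, hout,
          a, b, x, hab, hne.1.symm, hne.2.symm, (le_stab2_iff.1 hP).1, (le_stab2_iff.1 hP).2, hx⟩ ?_
      refine hcase.imp_right fun h a' b' hne' => ?_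
      rw [hPc]
      exact Nat.pow_le_pow_right hp.out.pos (h a' b' hne')
    · rintro (rfl | rfl)
      exacts [(le_stab2_iff.1 hP).1, (le_stab2_iff.1 hP).2]
  obtain ⟨S, hS⟩ := (IsPGroup.of_card hPc : IsPGroup p P).exists_le_sylow
  suffices hPS : P = S from ⟨S, fun x => by rw [← hPS]; exact hfix x⟩
  rcases hS.eq_or_lt with e | e
  · exact e
  exfalso
  have hp2 : p ≠ 2 := by
    rintro rfl
    obtain ⟨c, hc⟩ := SE.exists_fixed hH hu
    apply hout c hc
    have hodd : Odd (Nat.card P) := (odd_stab2 hH hab).of_dvd_nat (card_dvd_of_le hP)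
    obtain ⟨k, hk⟩ := (IsPGroup.of_card hPc : IsPGroup 2 P).exists_card_eq
    rcases k with _ | k
    · rw [eq_bot_of_card_eq P (by rw [hk, pow_zero])]; exact bot_le
    · exact absurd (even_iff_two_dvd.2 (hk ▸ dvd_pow_self 2 k.succ_ne_zero))
        (Nat.not_even_iff_odd.2 hodd)
  have hlt := Coprime.lt_normalizer_inf_of_lt S.isPGroup' e
  set W := (S : Subgroup G) ⊓ normalizer (P : Set G)
  have hW : W ≤ stab2 a b := by
    intro w hw
    have himg : ∀ x : G ⧸ H, x = a ∨ x = b → w • x = a ∨ w • x = b := fun x hx =>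
      (hfix _).1 (smul_of_normalizes hw.2 ((hfix x).2 hx))
    have hodd : Odd (orderOf w) := by
      obtain ⟨k, hk⟩ := S.isPGroup'.exists_card_eq
      have h1 : Odd (Nat.card S) := hk ▸ (hp.out.odd_of_ne_two hp2).pow
      exact h1.of_dvd_nat (orderOf_dvd_natCard _ hw.1)
    have hwa : w • a = a := by
      rcases himg a (.inl rfl) with h | h
      · exact h
      exfalso
      rcases himg b (.inr rfl) with h' | h'
      · obtain ⟨k, hk⟩ := hodd
        have h2 : (w ^ 2) • a = a := by rw [pow_two, mul_smul, h, h']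
        have h3 : (w ^ 2) ^ (k + 1) = w := by
          rw [← pow_mul, show 2 * (k + 1) = orderOf w + 1 by omega, pow_succ, pow_orderOf_eq_one,
            one_mul]
        have h4 : (w ^ 2) ^ (k + 1) ∈ stabilizer G a := pow_mem (mem_stabilizer_iff.2 h2) _
        rw [h3, mem_stabilizer_iff, h] at h4
        exact hab h4.symm
      · exact hab (smul_left_cancel w (h.trans h'.symm))
    refine mem_stab2.2 ⟨hwa, ?_⟩
    rcases himg b (.inr rfl) with h' | h'
    · exact absurd (smul_left_cancel w (h'.trans hwa.symm)) hab.symm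
    · exact h'
  have h := card_le_part (S.isPGroup'.to_le (inf_le_left : W ≤ S)) hW
  rw [← hPc] at h
  exact hlt.ne (eq_of_le_of_card_ge hlt.le h)

theorem full_or_bad {p : ℕ} [Fact p.Prime] {a b : G ⧸ H} (hab : a ≠ b) :
    (∃ z e Y, Full H p z e Y) ∨ Bad H p a b := by
  obtain ⟨u, hu, hua⟩ := exists_swap hH hab
  obtain ⟨P, hP, hPc, hPp, huP⟩ := exists_inv_sylow hu (odd_stab2 hH hab)
    (swap_mem_normalizer hu hua) p
  obtain ⟨c, hc⟩ := SE.exists_fixed hH hu
  by_cases hPc' : P ≤ stabilizer G c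
  · refine .inl ⟨u, c, P, hu, hc, hPp, huP, hPc',
      (relIndex_sylow_swap hH hab hu hua hP hPc huP).ge, a, ?_, (le_stab2_iff.1 hP).1⟩
    rintro rfl
    exact hab (hc.symm.trans hua)
  · exact .inr ⟨u, P, hu, hua, hP, hPc, huP, fun c' hc' => SE.fixed_unique hH hu hc hc' ▸ hPc'⟩

theorem exists_full (hnt : ¬ PairTransitive H) (p : ℕ) [hp : Fact p.Prime] :
    ∃ z e Y, Full H p z e Y := by
  by_contra hno
  have hbad : ∀ a b : G ⧸ H, a ≠ b → Bad H p a b := fun a b hab =>
    (full_or_bad hH hab).resolve_left hno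
  -- a pair with largest stabiliser
  have hne : ∃ q : (G ⧸ H) × (G ⧸ H), q.1 ≠ q.2 := by
    simp only [PairTransitive, not_forall] at hnt
    obtain ⟨a, b, -, hba, -⟩ := hnt
    exact ⟨(b, a), hba⟩
  obtain ⟨⟨a₀, b₀⟩, hab₀, hmax⟩ := Set.exists_max_image {q : (G ⧸ H) × (G ⧸ H) | q.1 ≠ q.2}
    (fun q => (Nat.card (stab2 q.1 q.2)).factorization p) (Set.toFinite _) hne
  simp only [Set.mem_ofPred_eq, Prod.forall] at hab₀ hmax
  obtain ⟨S₀, hS₀⟩ := sylow_two_fixed hH hab₀ (hbad _ _ hab₀) (.inr hmax)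
  have hn : ¬ p ∣ Nat.card (G ⧸ H) := by
    intro hd
    have h := card_fixed_modEq (H := H) S₀.isPGroup'
    rw [Nat.card_congr (Equiv.subtypeEquivRight hS₀),
      show {x : G ⧸ H // x = a₀ ∨ x = b₀} = ↥({a₀, b₀} : Set (G ⧸ H)) from rfl,
      Nat.card_coe_set_eq, Set.ncard_pair hab₀] at h
    have hp2 : p = 2 := (Nat.prime_dvd_prime_iff_eq hp.out Nat.prime_two).1
      (Nat.modEq_zero_iff_dvd.1 (h.trans (Nat.modEq_zero_iff_dvd.2 hd)))
    subst hp2
    exact Nat.not_even_iff_odd.2 (SE.odd_index hH) (even_iff_two_dvd.2 hd)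
  apply hnt
  intro a b b' hb hb'
  obtain ⟨S, hS⟩ := sylow_two_fixed hH hb.symm (hbad _ _ hb.symm) (.inl hn)
  obtain ⟨S', hS'⟩ := sylow_two_fixed hH hb'.symm (hbad _ _ hb'.symm) (.inl hn)
  have hSa := (hS a).2 (.inl rfl)
  have hS'a := (hS' a).2 (.inl rfl)
  obtain ⟨g, hg⟩ := MulAction.exists_smul_eq (stabilizer G a) (S.subtype hSa) (S'.subtype hS'a)
  have hga : (g : G) • a = a := g.2
  refine ⟨g, hga, ?_⟩
  have h : ((S' : Subgroup G)) ≤ stabilizer G ((g : G) • b) := by
    have h1 : (S' : Subgroup G) = (S : Subgroup G).map (MulAut.conj (g : G)).toMonoidHom := by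
      have h2 := congrArg (fun T : Sylow p (stabilizer G a) =>
        (T : Subgroup (stabilizer G a)).map (stabilizer G a).subtype) hg
      simp only [Coprime.map_smul_sylow, Sylow.coe_subtype, map_subgroupOf_eq_of_le hSa,
        map_subgroupOf_eq_of_le hS'a] at h2
      exact h2.symm
    rw [h1]
    exact map_conj_le_stabilizer.2 ((hS b).2 (.inr rfl))
  rcases (hS' _).1 h with e | e
  · exact absurd (smul_left_cancel (g : G) (e.trans hga.symm)) hb
  · exact e

theorem dvd_index_of_bad (hnt : ¬ PairTransitive H) {p : ℕ} [Fact p.Prime] {a b : G ⧸ H}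
    (hab : a ≠ b) (hbad : Bad H p a b) : p ∣ Nat.card (G ⧸ H) := by
  by_contra hn
  obtain ⟨S, hS⟩ := sylow_two_fixed hH hab hbad (.inl hn)
  obtain ⟨z, e, Y, hY⟩ := exists_full hH hnt p
  exact not_full_of_two hH S hab hS z e Y hY

/-- For a prime with a bad pair every involution normalises a Sylow subgroup of the stabiliser of
its fixed coset. -/
theorem exists_sylow_of_bad (hnt : ¬ PairTransitive H) {p : ℕ} [hp : Fact p.Prime] {a b : G ⧸ H}
    (hab : a ≠ b) (hbad : Bad H p a b) {z : G} {e : G ⧸ H} (hz : orderOf z = 2)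
    (hze : z • e = e) : ∃ T : Subgroup G, T ≤ stabilizer G e ∧
      Nat.card T = p ^ (Nat.card (stabilizer G e)).factorization p ∧
      z ∈ normalizer (T : Set G) := by
  obtain ⟨z₀, e₀, Y, hY⟩ := exists_full hH hnt p
  obtain ⟨T, hT, hmax⟩ := exists_max_full hY
  have hn : ¬ Nat.card (G ⧸ H) ≡ 1 [MOD p] := fun h => by
    have h' := (Nat.modEq_zero_iff_dvd.2 (dvd_index_of_bad hH hnt hab hbad)).symm.trans h
    rw [Nat.ModEq, Nat.zero_mod, Nat.mod_eq_of_lt hp.out.one_lt] at h'
    exact zero_ne_one h'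
  have hTc := card_max_full_stabilizer hH hT hmax hn
  obtain ⟨g, hg⟩ := isConj_iff.1 (SE.all_conj hH hT.inv hz)
  have hge : g • e₀ = e := SE.fixed_unique hH hz (by
    rw [← hg, smul_smul, inv_mul_cancel_right, mul_smul, hT.fix]) hze
  refine ⟨T.map (MulAut.conj g).toMonoidHom, hge ▸ map_conj_le_stabilizer.2 hT.le, ?_, ?_⟩
  · rw [Coprime.card_conj_map, hTc, ← hge, stabilizer_smul_eq_stabilizer_map_conj,
      Coprime.card_conj_map]
  · rw [← hg]
    refine Coprime.mem_normalizer_of_conj_map_le ?_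
    rintro _ ⟨y, hy, rfl⟩
    refine ⟨z₀ * y * z₀⁻¹, conj_mem_of_mem_normalizer hT.norm hy, ?_⟩
    change g * (z₀ * y * z₀⁻¹) * g⁻¹ = g * z₀ * g⁻¹ * (g * y * g⁻¹) * (g * z₀ * g⁻¹)⁻¹
    group

end CfsgLib.LocalEven.BenderTransitive
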