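import Cfsg.Agent.Lib.LocalEven.BenderTransitive.Full
import Cfsg.Agent.Lib.Involution.ZStar.Main
import Cfsg.Agent.Lib.Involution.ZStar.Corollaries

/-!
# Sylow subgroups of two-point stabilisers missing the fixed point of a swapping involution

If an invariant Sylow `p`-subgroup `P` of `G_{a,b}` does not fix the fixed coset of the swapping
involution, and either `p ∤ |G : H|` or `|P|` is as large as possible, then `P` is a Sylow
subgroup of `G` fixing exactly two cosets.  The proof uses the `Z*` theorem.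
-/

set_option autoImplicit false

namespace CfsgLib.LocalEven.BenderTransitive

open Subgroup MulAction CfsgLib.Involution.Dihedral CfsgLib.Involution

variable {G : Type*} [Group G] {H : Subgroup G}

/-- `Y` is normalised by the involution `u` with full index, fixes at least three cosets and not
the one fixed by `u`. -/
structure Exception (H : Subgroup G) (p : ℕ) (u : G) (Y : Subgroup G) : Prop where
  inv : orderOf u = 2
  pgroup : IsPGroup p Y
  norm : u ∈ normalizer (Y : Set G)
  full : mpart H p ≤ (centralizer ({u} : Set G)).relIndex Y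
  out : ∀ c : G ⧸ H, u • c = c → ¬ Y ≤ stabilizer G c
  three : ∃ x y w : G ⧸ H, x ≠ y ∧ x ≠ w ∧ y ≠ w ∧
    Y ≤ stabilizer G x ∧ Y ≤ stabilizer G y ∧ Y ≤ stabilizer G w

variable [Finite G] (hH : Cfsg.IsStronglyEmbedded H)

include hH

namespace Exception

variable {p : ℕ} {u : G} {Y : Subgroup G} (hY : Exception H p u Y)

include hY

theorem odd : Odd (Nat.card Y) := by
  obtain ⟨x, y, w, hxy, -, -, hx, hy, -⟩ := hY.three
  exact (odd_stab2 hH hxy).of_dvd_nat (card_dvd_of_le (le_inf hx hy))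

/-- No involution of `N(Y)` fixes a coset fixed by `Y`. -/
theorem out_normalizer {v : G} (hv : orderOf v = 2) (hvN : v ∈ normalizer (Y : Set G))
    {x : G ⧸ H} (hvx : v • x = x) : ¬ Y ≤ stabilizer G x := by
  intro hx
  obtain ⟨c, hc⟩ := SE.exists_fixed hH hY.inv
  rcases Nat.even_or_odd (orderOf (u * v)) with he | ho
  · have hw := half_orderOf he
    have hwc := SE.commute_fixes hH hY.inv hc (half_commute_left hY.inv hv he)
    have hwx := SE.commute_fixes hH hv hvx (half_commute_right hY.inv hv he)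
    exact hY.out c hc (SE.fixed_unique hH hw hwc hwx ▸ hx)
  · obtain ⟨d, hd, e⟩ := exists_conj_of_odd hY.inv hv ho
    have hdN : d ∈ normalizer (Y : Set G) := zpowers_le.2 (mul_mem hY.norm hvN) hd
    refine hY.out (d⁻¹ • x) ?_ (smul_of_normalizes (inv_mem hdN) hx)
    rw [← e, mul_smul, mul_smul] at hvx
    rwa [eq_inv_smul_iff]

/-- `N(Y)` contains no pair of distinct commuting involutions. -/
theorem not_commute {v w : G} (hv : orderOf v = 2) (hvN : v ∈ normalizer (Y : Set G))
    (hw : orderOf w = 2) (hwN : w ∈ normalizer (Y : Set G)) (hne : v ≠ w)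
    (hvw : Commute v w) : False := by
  obtain ⟨x, hx⟩ := SE.exists_fixed hH hv
  have hwx : w • x = x := SE.commute_fixes hH hv hx hvw.symm
  have hvw2 : orderOf (v * w) = 2 := by
    refine orderOf_eq_two ?_ fun h => hne ?_
    · rw [hvw.symm.mul_mul_mul_comm, mul_self hv, mul_self hw, one_mul]
    · rw [mul_eq_one_iff_eq_inv.1 h, inv_eq hw]
  refine out_normalizer hH hY hv hvN hx
    (le_of_centralizer_four hv hw hne hvw (odd hH hY) hvN hwN fun s hs => ?_)
  refine inf_le_right.trans ?_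
  rcases hs with rfl | rfl | rfl
  · exact centralizer_le_stabilizer hH hv hx
  · exact centralizer_le_stabilizer hH hw hwx
  · exact centralizer_le_stabilizer hH hvw2 (by rw [mul_smul, hwx, hx])

/-- All involutions of `N(Y)` are conjugate in it. -/
theorem conj_normalizer {v : G} (hv : orderOf v = 2) (hvN : v ∈ normalizer (Y : Set G)) :
    ∃ d ∈ normalizer (Y : Set G), d * u * d⁻¹ = v := by
  by_cases huv : u = v
  · exact ⟨1, one_mem _, by simp [huv]⟩
  rcases Nat.even_or_odd (orderOf (u * v)) with he | ho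
  · exfalso
    have hw := half_orderOf he
    have hwN := pow_mem (mul_mem hY.norm hvN) (orderOf (u * v) / 2)
    by_cases hwu : (u * v) ^ (orderOf (u * v) / 2) = u
    · have hc := half_commute_right hY.inv hv he
      rw [hwu] at hc
      exact not_commute hH hY hY.inv hY.norm hv hvN huv hc
    · exact not_commute hH hY hw hwN hY.inv hY.norm hwu (half_commute_left hY.inv hv he)
  · obtain ⟨d, hd, e⟩ := exists_conj_of_odd hY.inv hv ho
    exact ⟨d, zpowers_le.2 (mul_mem hY.norm hvN) hd, e⟩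

/-- The `Z*` theorem in `N(Y)`. -/
theorem exists_core : ∃ O : Subgroup G, O ≤ normalizer (Y : Set G) ∧
    normalizer (Y : Set G) ≤ normalizer (O : Set G) ∧ Odd (Nat.card O) ∧
    (∀ g ∈ normalizer (Y : Set G), u * g * u⁻¹ * g⁻¹ ∈ O) ∧
    ∀ v, orderOf v = 2 → v ∈ normalizer (Y : Set G) → ∃ o ∈ O, o * u * o⁻¹ = v := by
  set N := normalizer (Y : Set G)
  set u' : N := ⟨u, hY.norm⟩
  have hiso : Cfsg.IsIsolatedInvolution u' := by
    refine ⟨by rw [orderOf_mk]; exact hY.inv, fun g hg => ?_⟩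
    by_contra hne
    exact not_commute hH hY hY.inv hY.norm ((orderOf_conj (g : G) u).trans hY.inv)
      (mul_mem (mul_mem g.2 hY.norm) (inv_mem g.2)) (fun h => hne (Subtype.ext h.symm))
      (congrArg Subtype.val hg.eq)
  haveI := ZStar.oddCore_normal (G := N)
  refine ⟨(Cfsg.oddCore N).map N.subtype, map_subtype_le _, ?_, ?_, fun g hg => ?_,
    fun v hv hvN => ?_⟩
  · have h := le_normalizer_map (H := Cfsg.oddCore N) N.subtype
    rwa [normalizer_eq_top, ← MonoidHom.range_eq_map, range_subtype] at h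
  · rw [Coprime.card_map_subtype]; exact ZStar.odd_card_oddCore
  · exact ⟨_, ZStar.comm_mem_oddCore hiso ⟨g, hg⟩, rfl⟩
  · obtain ⟨d, hd, e⟩ := conj_normalizer hH hY hv hvN
    obtain ⟨o, ho, c, hc, hoc⟩ :=
      ZStar.exists_oddCore_mul_centralizer (ZStar.starCentral N) hiso ⟨d, hd⟩
    refine ⟨o, ⟨o, ho, rfl⟩, ?_⟩
    have h1 : d = (o : G) * c := congrArg Subtype.val hoc
    have h2 : (c : G) * u = u * c := congrArg Subtype.val (mem_centralizer_singleton_iff.1 hc)
    rw [← e, h1, mul_inv_rev, ← mul_assoc, mul_assoc (o : G) c u, h2]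
    group

end Exception

/-- There is no exception if `p ∤ |G : H|`, or if its order is as large as the `p`-part of every
two-point stabiliser. -/
theorem Exception.false_of {p : ℕ} [hp : Fact p.Prime] {u₀ : G} {Y₀ : Subgroup G}
    (hY₀ : Exception H p u₀ Y₀)
    (hcase : ¬ p ∣ Nat.card (G ⧸ H) ∨ ∀ a b : G ⧸ H, a ≠ b →
      p ^ (Nat.card (stab2 a b)).factorization p ≤ Nat.card Y₀) : False := by
  obtain ⟨⟨u, Y⟩, hY, hmax⟩ := Set.exists_max_image
    {q : G × Subgroup G | Exception H p q.1 q.2} (fun q => Nat.card q.2) (Set.toFinite _)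
    ⟨(u₀, Y₀), hY₀⟩
  simp only [Set.mem_ofPred_eq, Prod.forall] at hY hmax
  set N := normalizer (Y : Set G)
  obtain ⟨O, hON, hNO, hOodd, hOcomm, hOconj⟩ := Exception.exists_core hH hY
  obtain ⟨x, x₁, x₂, h12, h13, h23, hx, hx₁, hx₂⟩ := hY.three
  have hOfix : ∀ o ∈ O, ∀ w : G ⧸ H, Y ≤ stabilizer G w → Y ≤ stabilizer G (o • w) :=
    fun o ho w hw => smul_of_normalizes (hON ho) hw
  -- `u • x` is not in the orbit of `x` under `O`
  have hux : ∀ o ∈ O, o • x ≠ u • x := by
    intro o ho hox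
    let A := MulAction.orbit O x
    have hinv : ∀ w, w ∈ A ↔ u • w ∈ A := by
      have key : ∀ w ∈ A, u • w ∈ A := by
        rintro _ ⟨⟨o₁, ho₁⟩, rfl⟩
        refine ⟨⟨(u * o₁ * u⁻¹) * o,
          mul_mem (conj_mem_of_mem_normalizer (hNO hY.norm) ho₁) ho⟩, ?_⟩
        change ((u * o₁ * u⁻¹) * o) • x = u • o₁ • x
        rw [mul_smul, hox, smul_smul, inv_mul_cancel_right, mul_smul]
      refine fun w => ⟨key w, fun h => ?_⟩
      have h' := key _ h
      rwa [smul_smul, mul_self hY.inv, one_smul] at h'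
    classical
    letI := Fintype.ofFinite ↥A
    let σ : Equiv.Perm ↥A := (MulAction.toPerm u).subtypeEquiv hinv
    haveI : Fact (Nat.Prime 2) := ⟨Nat.prime_two⟩
    obtain ⟨⟨w, hw⟩, hfixw⟩ : ∃ w, σ w = w := by
      refine Equiv.Perm.exists_fixed_point_of_prime (p := 2) (n := 1) ?_ ?_
      · rw [← even_iff_two_dvd, Nat.not_even_iff_odd, ← Nat.card_eq_fintype_card]
        exact hOodd.of_dvd_nat ⟨Nat.card (stabilizer O x), by
          rw [← Nat.card_prod]
          exact (Nat.card_congr (MulAction.orbitProdStabilizerEquivGroup O x)).symm⟩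
      · refine Equiv.ext fun w => Subtype.ext ?_
        show u • u • (w : G ⧸ H) = w
        rw [smul_smul, mul_self hY.inv, one_smul]
    obtain ⟨⟨o₁, ho₁⟩, rfl⟩ := hw
    exact Exception.out_normalizer hH hY hY.inv hY.norm (congrArg Subtype.val hfixw :)
      (hOfix o₁ ho₁ x hx)
  -- the second point
  obtain ⟨y, hy, hyx, hyO⟩ : ∃ y, Y ≤ stabilizer G y ∧ y ≠ x ∧ ∀ o ∈ O, o • u • x ≠ y := by
    by_cases hall : ∀ o ∈ O, o • x = x
    · have hall' : ∀ o ∈ O, o • u • x = u • x := by
        intro o ho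
        have h := hall _ (conj_inv_mem_of_mem_normalizer (hNO hY.norm) ho)
        rwa [mul_smul, mul_smul, inv_smul_eq_iff] at h
      obtain ⟨y, hy, hyx, hyu⟩ : ∃ y, Y ≤ stabilizer G y ∧ y ≠ x ∧ y ≠ u • x := by
        by_cases h : x₁ = u • x
        · exact ⟨x₂, hx₂, h13.symm, h ▸ h23.symm⟩
        · exact ⟨x₁, hx₁, h12.symm, h⟩
      exact ⟨y, hy, hyx, fun o ho h => hyu (h.symm.trans (hall' o ho))⟩
    · push Not at hall
      obtain ⟨o, ho, hox⟩ := hall
      refine ⟨o • x, hOfix o ho x hx, hox, fun o' ho' h => ?_⟩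
      refine hux (o'⁻¹ * o) (mul_mem (inv_mem ho') ho) ?_
      rw [mul_smul, inv_smul_eq_iff]
      exact h.symm
  have hswap : ∀ v, orderOf v = 2 → v ∈ N → v • x ≠ y := by
    intro v hv hvN h
    obtain ⟨o, ho, rfl⟩ := hOconj v hv hvN
    refine hyO (o * (u * o⁻¹ * u⁻¹))
      (mul_mem ho (conj_mem_of_mem_normalizer (hNO hY.norm) (inv_mem ho))) ?_
    rw [smul_smul, ← mul_assoc, ← mul_assoc, mul_assoc (o * u * o⁻¹), inv_mul_cancel, mul_one]
    exact h
  -- a Sylow subgroup of `G_{x,y}` properly containing `Y`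
  have hYxy : Y ≤ stab2 x y := le_inf hx hy
  have hlt : Nat.card Y < p ^ (Nat.card (stab2 x y)).factorization p := by
    refine lt_of_le_of_ne (card_le_part hY.pgroup hYxy) fun e => ?_
    obtain ⟨v, hv, hvx, hvN⟩ := exists_swap_normalizing hH hyx.symm hYxy e
    exact hswap v hv hvN hvx
  rcases hcase with hn | hn
  swap
  · have h1 : Nat.card Y₀ ≤ Nat.card Y := hmax u₀ Y₀ hY₀
    have h2 := hn x y hyx.symm
    omega
  obtain ⟨S, hS⟩ := (hY.pgroup.of_equiv (subgroupOfEquivOfLe hYxy).symm).exists_le_sylow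
  set Q := (S : Subgroup (stab2 x y)).map (stab2 x y).subtype
  have hQ : Q ≤ stab2 x y := map_subtype_le _
  have hYQ : Y < Q := by
    have h := Subgroup.map_mono (f := (stab2 x y).subtype) hS
    rw [map_subgroupOf_eq_of_le hYxy] at h
    refine lt_of_le_of_ne h fun e => hlt.ne ?_
    rw [e, Coprime.card_map_subtype, S.card_eq_multiplicity]
  have hY₁lt := Coprime.lt_normalizer_inf_of_lt (S.isPGroup'.map _) hYQ
  set Y₁ := Q ⊓ N
  have hY₁p : IsPGroup p Y₁ := (S.isPGroup'.map _).to_le inf_le_left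
  -- the group `O Y₁`
  set K := O ⊔ Y₁
  have hY₁N : Y₁ ≤ N := inf_le_right
  have hKN : K ≤ N := sup_le hON hY₁N
  have hKodd : Odd (Nat.card K) := by
    haveI hn' := (normal_subgroupOf_iff_le_normalizer hON).2 hNO
    have h := Solvable.Basic.card_sup_mul (O.subgroupOf N) (Y₁.subgroupOf N)
    rw [Nat.card_congr (subgroupOfEquivOfLe hON).toEquiv,
      Nat.card_congr (subgroupOfEquivOfLe hY₁N).toEquiv, ← subgroupOf_sup hY₁N hON,
      Nat.card_congr (subgroupOfEquivOfLe (sup_le hY₁N hON)).toEquiv, sup_comm] at h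
    refine (((odd_stab2 hH hyx.symm).of_dvd_nat (card_dvd_of_le (show Y₁ ≤ stab2 x y from inf_le_left.trans hQ))).mul
      hOodd).of_dvd_nat ?_
    exact ⟨_, h.symm⟩
  have huK : u ∈ normalizer (K : Set G) := by
    refine Coprime.mem_normalizer_of_conj_map_le fun k hk => ?_
    have h1 : u * k * u⁻¹ * k⁻¹ ∈ K := mem_sup_left (hOcomm k (hKN hk))
    simpa using mul_mem h1 hk
  obtain ⟨S₁, hYS₁, hS₁K, hS₁c, hS₁p, huS₁⟩ := exists_inv_sylow_ge (p := p) hY.inv hKodd huK
    (hY₁lt.le.trans le_sup_right) hY.pgroup hY.norm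
  obtain ⟨x', hx'⟩ : ∃ x' : G ⧸ H, S₁ ≤ stabilizer G x' := by
    by_contra hno
    push Not at hno
    haveI : IsEmpty {x : G ⧸ H // S₁ ≤ stabilizer G x} := ⟨fun w => hno _ w.2⟩
    apply hn
    have h := card_fixed_modEq (H := H) hS₁p
    rw [Nat.card_of_isEmpty] at h
    exact Nat.modEq_zero_iff_dvd.1 h.symm
  have hux' : x' ≠ u • x' := fun h => hY.out x' h.symm (hYS₁.trans hx')
  have hsup := sylow_le_sup hH hux' hY.inv rfl hYS₁
    (le_inf hx' (smul_of_normalizes huS₁ hx')) hS₁p huS₁ hY.full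
  -- conjugate it onto a group containing `Y₁`
  obtain ⟨S₂, hS₂⟩ :=
    (hY₁p.of_equiv (subgroupOfEquivOfLe (le_sup_right : Y₁ ≤ K)).symm).exists_le_sylow
  obtain ⟨S₁', rfl⟩ := Coprime.exists_sylow_map_eq hS₁K hS₁c
  obtain ⟨⟨g, hgK⟩, rfl⟩ := MulAction.exists_smul_eq K S₁' S₂
  have hgN : g ∈ N := hKN hgK
  have hY₁S : Y₁ ≤ ((S₁' : Subgroup K).map K.subtype).map (MulAut.conj g).toMonoidHom := by
    have h := Subgroup.map_mono (f := K.subtype) hS₂
    rwa [map_subgroupOf_eq_of_le le_sup_right, Coprime.map_smul_sylow] at h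
  set u' := g * u * g⁻¹
  have hu' : orderOf u' = 2 := (orderOf_conj g u).trans hY.inv
  have hu'N : u' ∈ N := mul_mem (mul_mem hgN hY.norm) (inv_mem hgN)
  have hdec : Y₁ ≤ Y ⊔ (centralizer ({u'} : Set G) ⊓ N) := by
    refine hY₁S.trans ((Subgroup.map_mono hsup).trans ?_)
    rw [Subgroup.map_sup]
    refine sup_le_sup (Coprime.conj_map_le_iff.2 fun h hh => conj_mem_of_mem_normalizer hgN hh)
      (le_inf ?_ ?_)
    · rintro _ ⟨c, hc, rfl⟩
      have h1 : c * u = u * c := mem_centralizer_singleton_iff.1 hc.2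
      refine mem_centralizer_singleton_iff.2 ?_
      change g * c * g⁻¹ * (g * u * g⁻¹) = g * u * g⁻¹ * (g * c * g⁻¹)
      calc g * c * g⁻¹ * (g * u * g⁻¹) = g * (c * u) * g⁻¹ := by group
        _ = g * u * g⁻¹ * (g * c * g⁻¹) := by rw [h1]; group
    · refine Coprime.conj_map_le_iff.2 fun c hc => ?_
      exact mul_mem (mul_mem hgN (hKN (map_subtype_le _ hc.1))) (inv_mem hgN)
  have hu'Y₁ : u' ∈ normalizer (Y₁ : Set G) := by
    refine Coprime.mem_normalizer_of_conj_map_le fun k hk => ?_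
    obtain ⟨a, ha, c, hc, rfl⟩ :=
      (Coprime.mem_sup_of_le_normalizer inf_le_right).1 (hdec hk)
    have h1 : u' * (a * c) * u'⁻¹ = (u' * a * u'⁻¹) * c := by
      rw [← mul_assoc u', mul_assoc (u' * a) c, ← (show u'⁻¹ * c = c * u'⁻¹ from
        ((show Commute c u' from mem_centralizer_singleton_iff.1 hc.1).inv_right.eq).symm),
        ← mul_assoc]
    rw [h1]
    have hcY : c ∈ Y₁ := by simpa using mul_mem (inv_mem (hY₁lt.le ha)) hk
    exact mul_mem (hY₁lt.le (conj_mem_of_mem_normalizer hu'N ha)) hcY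
  have hfull : mpart H p ≤ (centralizer ({u'} : Set G)).relIndex Y₁ := by
    refine le_trans ?_ (relIndex_mono _ hY₁lt.le)
    have h := relIndex_centralizer_conj u g Y
    rw [Coprime.conj_map_eq_self_of_mem_normalizer hgN] at h
    rw [h]; exact hY.full
  have hexc : Exception H p u' Y₁ := by
    refine ⟨hu', hY₁p, hu'Y₁, hfull, fun c hc h => ?_, x, y, u' • x, hyx.symm, ?_, ?_, ?_, ?_, ?_⟩
    · exact Exception.out_normalizer hH hY hu' hu'N hc (hY₁lt.le.trans h)
    · exact fun h => Exception.out_normalizer hH hY hu' hu'N h.symm hx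
    · exact fun h => hswap u' hu' hu'N h.symm
    · exact inf_le_left.trans (hQ.trans inf_le_left)
    · exact inf_le_left.trans (hQ.trans inf_le_right)
    · exact smul_of_normalizes hu'Y₁ (inf_le_left.trans (hQ.trans inf_le_left))
  exact hY₁lt.ne (eq_of_le_of_card_ge hY₁lt.le (hmax u' Y₁ hexc))

end CfsgLib.LocalEven.BenderTransitive
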