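import Cfsg.Agent.Lib.LocalEven.BenderTransitive.Pairs

/-!
# Subgroups with full index

`Full H p z e Y`: the involution `z` fixes the coset `e` and normalises the `p`-subgroup `Y` of
`G_e`, which fixes a second coset and satisfies `|Y : C_Y(z)| ≥ m_p`, `m = mult H`.  A maximal
such subgroup is a Sylow subgroup of the two-point stabilisers it lies in, and of `G_e` unless
`|G : H| ≡ 1 (mod p)`.
-/

set_option autoImplicit false

namespace CfsgLib.LocalEven.BenderTransitive

open Subgroup MulAction CfsgLib.Involution.Dihedral CfsgLib.Involution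

variable {G : Type*} [Group G] {H : Subgroup G}

/-- The `p`-part of the number of involutions in `H`. -/
noncomputable def mpart (H : Subgroup G) (p : ℕ) : ℕ := p ^ (mult H).factorization p

/-- `z` fixes `e` and `Y ≤ G_e` has the full index with respect to `z`. -/
structure Full (H : Subgroup G) (p : ℕ) (z : G) (e : G ⧸ H) (Y : Subgroup G) : Prop where
  inv : orderOf z = 2
  fix : z • e = e
  pgroup : IsPGroup p Y
  norm : z ∈ normalizer (Y : Set G)
  le : Y ≤ stabilizer G e
  full : mpart H p ≤ (centralizer ({z} : Set G)).relIndex Y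
  second : ∃ g, g ≠ e ∧ Y ≤ stabilizer G g

theorem le_stab2_iff {Y : Subgroup G} {a b : G ⧸ H} :
    Y ≤ stab2 a b ↔ Y ≤ stabilizer G a ∧ Y ≤ stabilizer G b := le_inf_iff

theorem map_conj_le_stabilizer {Y : Subgroup G} {g : G} {x : G ⧸ H} :
    Y.map (MulAut.conj g).toMonoidHom ≤ stabilizer G (g • x) ↔ Y ≤ stabilizer G x := by
  constructor
  · intro h y hy
    have h1 := h ⟨y, hy, rfl⟩
    rw [mem_stabilizer_iff] at h1 ⊢
    change (g * y * g⁻¹) • g • x = g • x at h1
    rwa [smul_smul, inv_mul_cancel_right, mul_smul, smul_left_cancel_iff] at h1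
  · rintro h _ ⟨y, hy, rfl⟩
    rw [mem_stabilizer_iff]
    change (g * y * g⁻¹) • g • x = g • x
    rw [smul_smul, inv_mul_cancel_right, mul_smul, h hy]

variable [Finite G]

/-- The number of fixed cosets of a `p`-group is congruent to the index. -/
theorem card_fixed_modEq {p : ℕ} [Fact p.Prime] {Y : Subgroup G} (hY : IsPGroup p Y) :
    Nat.card {x : G ⧸ H // Y ≤ stabilizer G x} ≡ Nat.card (G ⧸ H) [MOD p] := by
  refine Nat.ModEq.trans ?_ (hY.card_modEq_card_fixedPoints (G ⧸ H)).symm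
  refine congrArg (· % p) (Nat.card_congr (Equiv.subtypeEquivRight fun x => ?_))
  exact ⟨fun h y => h y.2, fun h y hy => h ⟨y, hy⟩⟩

variable (hH : Cfsg.IsStronglyEmbedded H)

include hH

theorem relIndex_sylow_swap {p : ℕ} [Fact p.Prime] {a b : G ⧸ H} (hab : a ≠ b) {u : G}
    (hu : orderOf u = 2) (hua : u • a = b) {P : Subgroup G} (hP : P ≤ stab2 a b)
    (hPc : Nat.card P = p ^ (Nat.card (stab2 a b)).factorization p)
    (huP : u ∈ normalizer (P : Set G)) :
    (centralizer ({u} : Set G)).relIndex P = mpart H p := by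
  rw [relIndex_inv_sylow hu (odd_stab2 hH hab) (swap_mem_normalizer hu hua) hP hPc huP,
    relIndex_swap hH hab hu hua, mpart]

theorem relIndex_le_mpart {p : ℕ} [Fact p.Prime] {a b : G ⧸ H} (hab : a ≠ b) {u : G}
    (hu : orderOf u = 2) (hua : u • a = b) {Y : Subgroup G} (hY : Y ≤ stab2 a b)
    (hYp : IsPGroup p Y) (huY : u ∈ normalizer (Y : Set G)) :
    (centralizer ({u} : Set G)).relIndex Y ≤ mpart H p := by
  obtain ⟨P, hYP, hP, hPc, -, huP⟩ := exists_inv_sylow_ge hu (odd_stab2 hH hab)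
    (swap_mem_normalizer hu hua) hY hYp huY
  rw [← relIndex_sylow_swap hH hab hu hua hP hPc huP]
  exact relIndex_mono _ hYP

/-- A subgroup with full index inside a swapped pair: an invariant Sylow subgroup containing it is
obtained by adjoining centralised elements. -/
theorem sylow_le_sup {p : ℕ} [Fact p.Prime] {a b : G ⧸ H} (hab : a ≠ b) {u : G}
    (hu : orderOf u = 2) (hua : u • a = b) {Y P : Subgroup G} (hYP : Y ≤ P) (hP : P ≤ stab2 a b)
    (hPp : IsPGroup p P) (huP : u ∈ normalizer (P : Set G))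
    (hfull : mpart H p ≤ (centralizer ({u} : Set G)).relIndex Y) :
    P ≤ Y ⊔ (P ⊓ centralizer ({u} : Set G)) :=
  le_sup_of_relIndex_le _ hYP ((relIndex_le_mpart hH hab hu hua hP hPp huP).trans hfull)

/-- A full subgroup lies in a full Sylow subgroup of `G_{e,g}`. -/
theorem exists_full_sylow {p : ℕ} [Fact p.Prime] {z : G} {e g : G ⧸ H} {Y : Subgroup G}
    (hY : Full H p z e Y) (hne : g ≠ e) (hg : Y ≤ stabilizer G g) :
    ∃ P : Subgroup G, Y ≤ P ∧ P ≤ stab2 e g ∧ Full H p z e P ∧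
      Nat.card P = p ^ (Nat.card (stab2 e g)).factorization p := by
  have hzg := (smul_ne_of_ne hH hY.inv hY.fix hne).symm
  obtain ⟨P, hYP, hP, hPc, hPp, hzP⟩ := exists_inv_sylow_ge hY.inv (odd_stab2 hH hzg)
    (swap_mem_normalizer hY.inv rfl) (le_inf hg (smul_of_normalizes hY.norm hg)) hY.pgroup hY.norm
  have hPe : P ≤ stabilizer G e :=
    (sylow_le_sup hH hzg hY.inv rfl hYP hP hPp hzP hY.full).trans
      (sup_le hY.le (inf_le_right.trans (centralizer_le_stabilizer hH hY.inv hY.fix)))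
  refine ⟨P, hYP, le_inf hPe (le_stab2_iff.1 hP).1, ⟨hY.inv, hY.fix, hPp, hzP, hPe, ?_,
    g, hne, (le_stab2_iff.1 hP).1⟩, ?_⟩
  · exact hY.full.trans (relIndex_mono _ hYP)
  · rw [card_stab2_eq hH hY.inv hY.fix hne]; exact hPc

/-- Some involution interchanging `a` and `b` normalises a given Sylow subgroup of `G_{a,b}`. -/
theorem exists_swap_normalizing {p : ℕ} [Fact p.Prime] {a b : G ⧸ H} (hab : a ≠ b)
    {T : Subgroup G} (hT : T ≤ stab2 a b)
    (hTc : Nat.card T = p ^ (Nat.card (stab2 a b)).factorization p) :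
    ∃ u : G, orderOf u = 2 ∧ u • a = b ∧ u ∈ normalizer (T : Set G) := by
  obtain ⟨u₀, hu₀, hua₀⟩ := exists_swap hH hab
  obtain ⟨P, hP, hPc, -, huP⟩ := exists_inv_sylow hu₀ (odd_stab2 hH hab)
    (swap_mem_normalizer hu₀ hua₀) p
  obtain ⟨P', rfl⟩ := Coprime.exists_sylow_map_eq hP hPc
  obtain ⟨T', rfl⟩ := Coprime.exists_sylow_map_eq hT hTc
  obtain ⟨d, hd⟩ := MulAction.exists_smul_eq (stab2 a b) P' T'
  refine ⟨(d : G) * u₀ * (d : G)⁻¹, (orderOf_conj _ _).trans hu₀, ?_, ?_⟩
  · rw [mul_smul, mul_smul, inv_smul_eq_iff.2 (mem_stab2.1 d.2).1.symm, hua₀,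
      (mem_stab2.1 d.2).2]
  · rw [← hd, Coprime.map_smul_sylow]
    refine Coprime.mem_normalizer_of_conj_map_le ?_
    rintro _ ⟨y, hy, rfl⟩
    refine ⟨u₀ * y * u₀⁻¹, conj_mem_of_mem_normalizer huP hy, ?_⟩
    change (d : G) * (u₀ * y * u₀⁻¹) * (d : G)⁻¹ =
      (d : G) * u₀ * (d : G)⁻¹ * ((d : G) * y * (d : G)⁻¹) * ((d : G) * u₀ * (d : G)⁻¹)⁻¹
    group

omit hH in
theorem exists_max_full {p : ℕ} {z : G} {e : G ⧸ H} {Y : Subgroup G} (hY : Full H p z e Y) :
    ∃ T, Full H p z e T ∧ ∀ Y', Full H p z e Y' → Nat.card Y' ≤ Nat.card T := by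
  obtain ⟨T, hT, hmax⟩ := Set.exists_max_image {Y | Full H p z e Y} (fun Y => Nat.card Y)
    (Set.toFinite _) ⟨Y, hY⟩
  exact ⟨T, hT, hmax⟩

theorem card_max_full {p : ℕ} [Fact p.Prime] {z : G} {e g : G ⧸ H} {T : Subgroup G}
    (hT : Full H p z e T) (hmax : ∀ Y', Full H p z e Y' → Nat.card Y' ≤ Nat.card T)
    (hne : g ≠ e) (hg : T ≤ stabilizer G g) :
    Nat.card T = p ^ (Nat.card (stab2 e g)).factorization p := by
  obtain ⟨P, hTP, -, hP, hPc⟩ := exists_full_sylow hH hT hne hg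
  rw [← hPc, eq_of_le_of_card_ge hTP (hmax P hP)]

omit hH in
/-- A `p`-subgroup has order at most the `p`-part of any subgroup containing it. -/
theorem card_le_part {p : ℕ} [hp : Fact p.Prime] {Y K : Subgroup G} (hY : IsPGroup p Y)
    (hYK : Y ≤ K) : Nat.card Y ≤ p ^ (Nat.card K).factorization p := by
  obtain ⟨k, hk⟩ := hY.exists_card_eq
  rw [hk]
  exact Nat.pow_le_pow_right hp.out.pos
    ((hp.out.pow_dvd_iff_le_factorization Nat.card_pos.ne').1 (hk ▸ card_dvd_of_le hYK))

omit hH in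
theorem exists_sylow_in {p : ℕ} [Fact p.Prime] (K : Subgroup G) :
    ∃ P : Subgroup G, P ≤ K ∧ IsPGroup p P ∧
      Nat.card P = p ^ (Nat.card K).factorization p := by
  let S : Sylow p K := default
  exact ⟨_, map_subtype_le _, S.isPGroup'.map _,
    by rw [Coprime.card_map_subtype, S.card_eq_multiplicity]⟩

/-- A maximal full subgroup is a Sylow subgroup of the point stabiliser, unless
`|G : H| ≡ 1 (mod p)`. -/
theorem card_max_full_stabilizer {p : ℕ} [hp : Fact p.Prime] {z : G} {e : G ⧸ H} {T : Subgroup G}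
    (hT : Full H p z e T) (hmax : ∀ Y', Full H p z e Y' → Nat.card Y' ≤ Nat.card T)
    (hn : ¬ Nat.card (G ⧸ H) ≡ 1 [MOD p]) :
    Nat.card T = p ^ (Nat.card (stabilizer G e)).factorization p := by
  obtain ⟨g, hne, hg⟩ := hT.second
  have hTD := card_max_full hH hT hmax hne hg
  have hTeg : T ≤ stab2 e g := le_inf hT.le hg
  obtain ⟨s, hs, hse, hsT⟩ := exists_swap_normalizing hH hne.symm hTeg hTD
  refine le_antisymm (card_le_part hT.pgroup hT.le) ?_
  by_contra hlt
  rw [not_le] at hlt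
  set N := normalizer (T : Set G)
  set C := centralizer ({z} : Set G)
  -- the normaliser contains an involution fixing `g`
  have hv : orderOf (s * z * s⁻¹) = 2 := (orderOf_conj _ _).trans hT.inv
  have hvg : (s * z * s⁻¹) • g = g := by
    rw [← hse, smul_smul, inv_mul_cancel_right, mul_smul, hT.fix]
  have hvN : s * z * s⁻¹ ∈ N := mul_mem (mul_mem hsT hT.norm) (inv_mem hsT)
  set Ne := stabilizer G e ⊓ N
  set Ng := stab2 e g ⊓ N
  have horb : C.relIndex Ne = C.relIndex Ng := by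
    have hfix : ∀ d : G, d • e = e → d ∈ N →
        orderOf (d * z * d⁻¹) = 2 ∧ (d * z * d⁻¹) • e = e ∧ d * z * d⁻¹ ∈ N := fun d hd hdN => by
      refine ⟨(orderOf_conj _ _).trans hT.inv, ?_, mul_mem (mul_mem hdN hT.norm) (inv_mem hdN)⟩
      rw [mul_smul, mul_smul, inv_smul_eq_iff.2 hd.symm, hT.fix, hd]
    have htr : ∀ t, (orderOf t = 2 ∧ t • e = e ∧ t ∈ N) → ∃ d ∈ Ng, d * z * d⁻¹ = t := by
      rintro t ⟨ht, hte, htN⟩
      obtain ⟨d, hdN, hd, e'⟩ :=
        exists_conj_fixing_mem hH hne.symm hT.inv hT.fix ht hte hv hvg hT.norm htN hvN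
      exact ⟨d, ⟨hd, hdN⟩, e'⟩
    rw [relIndex_centralizer_eq (D := Ne) (P := fun t => orderOf t = 2 ∧ t • e = e ∧ t ∈ N)
      (fun d hd => hfix d hd.1 hd.2) (fun t ht => by
        obtain ⟨d, hd, e'⟩ := htr t ht
        exact ⟨d, ⟨hd.1.1, hd.2⟩, e'⟩),
      relIndex_centralizer_eq (D := Ng) (P := fun t => orderOf t = 2 ∧ t • e = e ∧ t ∈ N)
      (fun d hd => hfix d (mem_stab2.1 hd.1).1 hd.2) htr]
  -- the `p`-part of `N_e` exceeds `|T|`
  have h1 : Nat.card T < p ^ (Nat.card Ne).factorization p := by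
    obtain ⟨S, hS⟩ := (hT.pgroup.of_equiv (subgroupOfEquivOfLe hT.le).symm).exists_le_sylow
    set R := (S : Subgroup (stabilizer G e)).map (stabilizer G e).subtype
    have hTR : T < R := by
      have h := Subgroup.map_mono (f := (stabilizer G e).subtype) hS
      rw [map_subgroupOf_eq_of_le hT.le] at h
      refine lt_of_le_of_ne h fun e' => hlt.ne ?_
      rw [e', Coprime.card_map_subtype, S.card_eq_multiplicity]
    have h2 := Coprime.lt_normalizer_inf_of_lt (S.isPGroup'.map _) hTR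
    have h3 : Nat.card T < Nat.card ↥(R ⊓ N) :=
      lt_of_le_of_ne (card_le_of_le h2.le) fun e' => h2.ne (eq_of_le_of_card_ge h2.le e'.ge)
    exact h3.trans_le (card_le_part ((S.isPGroup'.map _).to_le inf_le_left)
      (inf_le_inf_right _ (map_subtype_le _)))
  have h4 : Nat.card T = p ^ (Nat.card Ng).factorization p := by
    refine le_antisymm (card_le_part hT.pgroup (le_inf hTeg le_normalizer)) ?_
    rw [hTD]
    exact Nat.pow_le_pow_right hp.out.pos
      ((Nat.factorization_le_iff_dvd Nat.card_pos.ne' Nat.card_pos.ne').2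
        (card_dvd_of_le inf_le_left) p)
  have hfac : ∀ K : Subgroup G, (Nat.card K).factorization p =
      (Nat.card ↥(K ⊓ C)).factorization p + (C.relIndex K).factorization p := fun K => by
    rw [← Coprime.card_mul_relIndex' (inf_le_left : K ⊓ C ≤ K), inf_relIndex_left,
      Nat.factorization_mul Nat.card_pos.ne' (relIndex_ne_zero' _ _), Finsupp.add_apply]
  have h5 : (Nat.card ↥(Ng ⊓ C)).factorization p < (Nat.card ↥(Ne ⊓ C)).factorization p := by
    have h := (Nat.pow_lt_pow_iff_right hp.out.one_lt).1 (h4 ▸ h1)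
    rw [hfac Ne, hfac Ng, horb] at h
    omega
  -- adjoin a Sylow subgroup of the centraliser
  obtain ⟨Y₀, hY₀, hY₀p, hY₀c⟩ := exists_sylow_in (p := p) (Ne ⊓ C)
  have hY₀T : ¬ Y₀ ≤ T := fun h => by
    have h6 : Nat.card Y₀ ≤ p ^ (Nat.card ↥(Ng ⊓ C)).factorization p :=
      card_le_part hY₀p (le_inf (h.trans (le_inf hTeg le_normalizer)) (hY₀.trans inf_le_right))
    rw [hY₀c] at h6
    exact absurd ((Nat.pow_le_pow_iff_right hp.out.one_lt).1 h6) (not_le.2 h5)
  set Y := T ⊔ Y₀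
  have hYp : IsPGroup p Y :=
    hT.pgroup.to_sup_of_normal_left' hY₀p (hY₀.trans (inf_le_left.trans inf_le_right))
  have hYe : Y ≤ stabilizer G e := sup_le hT.le (hY₀.trans (inf_le_left.trans inf_le_left))
  have hzY : z ∈ normalizer (Y : Set G) := by
    refine Coprime.mem_normalizer_of_conj_map_le (Coprime.conj_map_le_iff.1 ?_)
    rw [Subgroup.map_sup]
    refine sup_le_sup (Coprime.conj_map_le_iff.2 fun h hh => conj_mem_of_mem_normalizer hT.norm hh)
      (Coprime.conj_map_le_iff.2 fun h hh => ?_)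
    rwa [← mem_centralizer_singleton_iff.1 (hY₀ hh).2, mul_inv_cancel_right]
  refine hY₀T (le_sup_right.trans (eq_of_le_of_card_ge (le_sup_left : T ≤ Y) (hmax Y
    ⟨hT.inv, hT.fix, hYp, hzY, hYe, hT.full.trans (relIndex_mono _ le_sup_left), ?_⟩)).ge)
  by_contra hno
  push Not at hno
  apply hn
  refine (card_fixed_modEq (H := H) hYp).symm.trans (congrArg (· % p) ?_)
  haveI : Subsingleton {x : G ⧸ H // Y ≤ stabilizer G x} := ⟨fun x y => Subtype.ext (by
    rw [by_contra fun h => hno _ h x.2, by_contra fun h => hno _ h y.2])⟩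
  haveI : Nonempty {x : G ⧸ H // Y ≤ stabilizer G x} := ⟨⟨e, hYe⟩⟩
  exact Nat.card_of_subsingleton (Classical.arbitrary _)

/-- If a Sylow `p`-subgroup of `G` fixes exactly two cosets there is no full subgroup. -/
theorem not_full_of_two {p : ℕ} [hp : Fact p.Prime] (S : Sylow p G) {a b : G ⧸ H} (hab : a ≠ b)
    (hS : ∀ x : G ⧸ H, (S : Subgroup G) ≤ stabilizer G x ↔ x = a ∨ x = b) (z : G) (e : G ⧸ H)
    (Y : Subgroup G) : ¬ Full H p z e Y := by
  intro hY
  obtain ⟨T, hT, hmax⟩ := exists_max_full hY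
  have hp2 : p ≠ 2 := by
    rintro rfl
    have hle : (S : Subgroup G) ≤ stab2 a b :=
      le_inf ((hS a).2 (.inl rfl)) ((hS b).2 (.inr rfl))
    obtain ⟨t, -, ht⟩ := Basic.exists_involution_of_even H hH.2.1
    have h2 : 2 ∣ Nat.card (S : Subgroup G) :=
      S.dvd_card_of_dvd_card (ht ▸ orderOf_dvd_natCard t)
    exact Nat.not_even_iff_odd.2 ((odd_stab2 hH hab).of_dvd_nat (card_dvd_of_le hle))
      (even_iff_two_dvd.2 h2)
  have htwo : Nat.card (G ⧸ H) ≡ 2 [MOD p] := by
    refine (card_fixed_modEq (H := H) S.isPGroup').symm.trans (congrArg (· % p) ?_)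
    rw [Nat.card_congr (Equiv.subtypeEquivRight hS)]
    classical
    rw [show {x : G ⧸ H // x = a ∨ x = b} = ↥({a, b} : Set (G ⧸ H)) from rfl, Nat.card_coe_set_eq,
      Set.ncard_pair hab]
  have hp3 : 3 ≤ p := by have := hp.out.two_le; omega
  have hn1 : ¬ Nat.card (G ⧸ H) ≡ 1 [MOD p] := fun h => by
    have := (htwo.symm.trans h : 2 ≡ 1 [MOD p])
    rw [Nat.ModEq, Nat.mod_eq_of_lt (by omega), Nat.mod_eq_of_lt (by omega)] at this
    omega
  have hn0 : ¬ p ∣ Nat.card (G ⧸ H) := fun h => by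
    have := htwo.symm.trans ((Nat.modEq_zero_iff_dvd).2 h)
    rw [Nat.ModEq, Nat.mod_eq_of_lt (by omega), Nat.zero_mod] at this
    omega
  have hcard : Nat.card T = p ^ (Nat.card G).factorization p := by
    rw [card_max_full_stabilizer hH hT hmax hn1]
    congr 1
    rw [← card_mul_index (stabilizer G e), index_stabilizer_of_transitive,
      Nat.factorization_mul Nat.card_pos.ne' Nat.card_pos.ne', Finsupp.add_apply,
      Nat.factorization_eq_zero_of_not_dvd hn0, add_zero]
  obtain ⟨g, hg⟩ := MulAction.exists_smul_eq G (Sylow.ofCard T hcard) S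
  have hfix : ∀ x : G ⧸ H, T ≤ stabilizer G x → x = g⁻¹ • a ∨ x = g⁻¹ • b := by
    intro x hx
    have h : (S : Subgroup G) ≤ stabilizer G (g • x) := by
      rw [← hg, Sylow.coe_subgroup_smul]
      exact map_conj_le_stabilizer.2 hx
    rcases (hS _).1 h with e' | e' <;> rw [← e', inv_smul_smul]
    exacts [.inl rfl, .inr rfl]
  obtain ⟨x, hxe, hx⟩ := hT.second
  have hzx := smul_ne_of_ne hH hT.inv hT.fix hxe
  have hzxe : z • x ≠ e := fun h => hxe (by rw [← swap_smul hT.inv h, hT.fix])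
  rcases hfix e hT.le with e1 | e1 <;> rcases hfix x hx with e2 | e2 <;>
    rcases hfix _ (smul_of_normalizes hT.norm hx) with e3 | e3 <;>
    first
      | exact hxe (e2.trans e1.symm)
      | exact hzxe (e3.trans e1.symm)
      | exact hzx (e3.trans e2.symm)

end CfsgLib.LocalEven.BenderTransitive
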