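import Cfsg.Agent.Lib.LocalEven.BenderTransitive.OddConfigFitting
import Cfsg.Agent.Lib.Coprime.Generation
import Cfsg.Agent.Lib.OddOrder.Final.Main

/-!
# There is no maximal subgroup of odd order transitive on the involutions in the given configuration
-/

set_option autoImplicit false

namespace CfsgLib.LocalEven.BenderTransitive

open Subgroup CfsgLib.Solvable CfsgLib.Involution.Dihedral

universe u

variable {X : Type u} [Group X]

/-- The elements of order dividing `r` in the centre of `O_r(N)`. -/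
def omegaCentre (r : ℕ) (N : Subgroup X) : Subgroup X where
  carrier := {x | (x ∈ fcore r N ∧ x ∈ centralizer (fcore r N : Set X)) ∧ x ^ r = 1}
  one_mem' := ⟨⟨one_mem _, one_mem _⟩, one_pow r⟩
  mul_mem' := by
    rintro a b ⟨⟨ha1, ha2⟩, ha3⟩ ⟨⟨hb1, hb2⟩, hb3⟩
    refine ⟨⟨mul_mem ha1 hb1, mul_mem ha2 hb2⟩, ?_⟩
    rw [(show Commute a b from (mem_centralizer_iff.1 ha2 b hb1).symm).mul_pow, ha3, hb3, one_mul]
  inv_mem' := by
    rintro a ⟨⟨ha1, ha2⟩, ha3⟩
    exact ⟨⟨inv_mem ha1, inv_mem ha2⟩, by rw [inv_pow, ha3, inv_one]⟩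

theorem omegaCentre_le (r : ℕ) (N : Subgroup X) : omegaCentre r N ≤ fcore r N := fun _ h => h.1.1

theorem fcore_le_centralizer_omegaCentre (r : ℕ) (N : Subgroup X) :
    fcore r N ≤ centralizer (omegaCentre r N : Set X) :=
  le_centralizer_iff.1 fun _ h => h.1.2

theorem omegaCentre_commutative (r : ℕ) (N : Subgroup X) : IsMulCommutative (omegaCentre r N) :=
  le_centralizer_iff_isMulCommutative.1
    ((omegaCentre_le r N).trans (fcore_le_centralizer_omegaCentre r N))

theorem le_normalizer_omegaCentre [Finite X] (r : ℕ) (N : Subgroup X) :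
    N ≤ normalizer (omegaCentre r N : Set X) := by
  refine le_normalizer_iff.2 fun g hg x hx => ?_
  have hgF := le_normalizer_fcore r N hg
  refine ⟨⟨(mem_normalizer_iff.1 hgF x).1 hx.1.1, mem_centralizer_iff.2 fun y hy => ?_⟩, ?_⟩
  · have h1 : g⁻¹ * y * g ∈ fcore r N := by
      simpa using (mem_normalizer_iff.1 (inv_mem hgF) y).1 hy
    have h2 : g⁻¹ * y * g * x = x * (g⁻¹ * y * g) := mem_centralizer_iff.1 hx.1.2 _ h1
    calc y * (g * x * g⁻¹) = g * (g⁻¹ * y * g * x) * g⁻¹ := by group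
      _ = g * (x * (g⁻¹ * y * g)) * g⁻¹ := by rw [h2]
      _ = g * x * g⁻¹ * y := by group
  · rw [← MulAut.conj_apply, ← map_pow, hx.2, map_one]

theorem omegaCentre_ne_bot [Finite X] {r : ℕ} [hr : Fact r.Prime] {N : Subgroup X}
    (h : fcore r N ≠ ⊥) : omegaCentre r N ≠ ⊥ := by
  haveI := (nontrivial_iff_ne_bot (fcore r N)).2 h
  haveI := (isPGroup_fcore r N).center_nontrivial
  obtain ⟨w, hw⟩ := exists_prime_orderOf_dvd_card' (G := center (fcore r N)) r
    ((((isPGroup_fcore r N).to_subgroup _).card_eq_or_dvd).resolve_left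
      (Finite.one_lt_card (α := center (fcore r N))).ne')
  intro hb
  have hw' : orderOf ((w : fcore r N) : X) = r := by
    rw [Subgroup.orderOf_coe, Subgroup.orderOf_coe, hw]
  have hmem : ((w : fcore r N) : X) ∈ omegaCentre r N := by
    refine ⟨⟨(w : fcore r N).2, mem_centralizer_iff.2 fun y hy => ?_⟩, ?_⟩
    · exact congrArg Subtype.val (mem_center_iff.1 w.2 ⟨y, hy⟩)
    · conv_lhs => arg 2; rw [← hw']
      exact pow_orderOf_eq_one _
  rw [hb, mem_bot] at hmem
  rw [hmem, orderOf_one] at hw'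
  exact hr.out.one_lt.ne hw'

theorem fcore_le_centralizer_fcore {p q : ℕ} [Fact p.Prime] [Fact q.Prime] (hpq : p ≠ q)
    (N : Subgroup X) : fcore p N ≤ centralizer (fcore q N : Set X) :=
  commutator_eq_bot_iff_le_centralizer.1 (commutator_fcore_eq_bot hpq N)

variable [Finite X]

theorem isSolvable_of_odd {W : Subgroup X} (h : Odd (Nat.card W)) : Group.IsSolvable W :=
  CfsgLib.OddOrder.Final.oddSolvable W h

namespace OddConfig

variable {N : Subgroup X} {z : X} (c : OddConfig N z)

include c in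
theorem normalizer_fcore {r : ℕ} [Fact r.Prime] (h : Cfsg.pCore r N ≠ ⊥) :
    normalizer (fcore r N : Set X) = N :=
  c.normalizer_eq (fcore_le r N) (isPGroup_fcore r N) (fcore_ne_bot h) (le_normalizer_fcore r N)

include c in
theorem notMem_normalizer_omegaCentre {r : ℕ} [Fact r.Prime] (h : Cfsg.pCore r N ≠ ⊥) {v : X}
    (hv : orderOf v = 2) : v ∉ normalizer (omegaCentre r N : Set X) :=
  c.not_normalizes ((omegaCentre_le r N).trans (fcore_le r N))
    ((isPGroup_fcore r N).to_le (omegaCentre_le r N)) (omegaCentre_ne_bot (fcore_ne_bot h))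
    (le_normalizer_omegaCentre r N) hv

include c in
/-- The centraliser index of `z` on `Z(O_r(N))` is a proper power of `r`. -/
theorem exists_relIndex_eq {r : ℕ} [hr : Fact r.Prime] (h : Cfsg.pCore r N ≠ ⊥) :
    ∃ k, 1 ≤ k ∧ (centralizer ({z} : Set X)).relIndex (omegaCentre r N) = r ^ k := by
  obtain ⟨n, hn⟩ := ((isPGroup_fcore r N).to_le (omegaCentre_le r N)).exists_card_eq
  obtain ⟨k, -, hk⟩ := (Nat.dvd_prime_pow hr.out).1 (hn ▸ relIndex_dvd_card
    (centralizer ({z} : Set X)) (omegaCentre r N))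
  refine ⟨k, ?_, hk⟩
  by_contra hk0
  rw [not_le, Nat.lt_one_iff] at hk0
  rw [hk0, pow_zero, relIndex_eq_one] at hk
  refine c.notMem_normalizer_omegaCentre h c.inv (centralizer_le_normalizer _
    (mem_centralizer_iff.2 fun x hx => ?_))
  exact mem_centralizer_singleton_iff.1 (hk hx)

include c in
/-- The case of an index at least `p²`. -/
theorem le_centralizer_of_big {p q : ℕ} [hp : Fact p.Prime] [hq : Fact q.Prime] (hpq : p ≠ q)
    (hpN : Cfsg.pCore p N ≠ ⊥) (hqN : Cfsg.pCore q N ≠ ⊥)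
    (hbig : p ^ 2 ≤ (centralizer ({z} : Set X)).relIndex (omegaCentre p N)) {s : X}
    (hs : ∀ x ∈ fcore p N, s⁻¹ * x * s ∈ N) :
    fcore p N ≤ centralizer ((fcore q N).map (MulAut.conj s).toMonoidHom : Set X) := by
  set E := fcore p N
  set U := (fcore q N).map (MulAut.conj s).toMonoidHom
  set A := omegaCentre p N
  have hEU : E ≤ normalizer (U : Set X) := fun x hx => by
    rw [map_conj_normalizer, c.normalizer_fcore hqN, mem_map_conj]
    exact hs x hx
  haveI := omegaCentre_commutative p N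
  have hAp : IsPGroup p A := (isPGroup_fcore p N).to_le (omegaCentre_le p N)
  have hUq : IsPGroup q U := (isPGroup_fcore q N).map _
  have hcop : (Nat.card A).Coprime (Nat.card U) :=
    IsPGroup.coprime_card_of_ne p q hpq A U hAp hUq
  refine le_centralizer_iff.1 ?_
  rw [← Coprime.iSup_centralizer_of_cyclic_quotient
    ((omegaCentre_le p N).trans hEU : A ≤ normalizer (U : Set X)) hcop]
  refine iSup₂_le fun B hB => le_centralizer_iff.1 ?_
  obtain ⟨hBA, a, ha, hgen⟩ := hB
  -- `B` has index at most `p` in `A`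
  have hcard : Nat.card A ≤ Nat.card B * p := by
    have hA : Nat.card A = Nat.card ↥(B ⊔ zpowers a) := by rw [hgen]
    by_cases haB : a ∈ B
    · rw [hA, sup_eq_left.2 (zpowers_le.2 haB)]
      exact Nat.le_mul_of_pos_right _ hp.out.pos
    have ha1 : a ≠ 1 := fun e => haB (e ▸ one_mem B)
    have hord : orderOf a = p := orderOf_eq_prime ha.2 ha1
    have hdis : Disjoint B (zpowers a) := by
      rw [disjoint_iff, eq_bot_iff]
      rintro x ⟨hxB, hxa⟩
      rw [mem_bot]
      by_contra hx1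
      apply haB
      have hle : zpowers x ≤ zpowers a := zpowers_le.2 hxa
      have : zpowers x = zpowers a := by
        refine eq_of_le_of_card_ge hle ?_
        rw [Nat.card_zpowers, Nat.card_zpowers, hord]
        rcases (Nat.dvd_prime hp.out).1 (hord ▸ Nat.card_zpowers a ▸
          Nat.card_zpowers x ▸ card_dvd_of_le hle) with e | e
        · exact absurd (orderOf_eq_one_iff.1 e) hx1
        · exact e.ge
      exact zpowers_le.2 hxB (this ▸ mem_zpowers a)
    have hnorm : zpowers a ≤ normalizer (B : Set X) := zpowers_le.2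
      (centralizer_le_normalizer _ (centralizer_le hBA
        (le_centralizer_iff_isMulCommutative.2 inferInstance ha)))
    rw [hA, Coprime.card_sup_of_le_normalizer hnorm hdis, Nat.card_zpowers, hord]
  -- the centraliser of `B` has odd order
  set W := centralizer (B : Set X)
  have hWodd : Odd (Nat.card W) := c.odd_of_no_involution fun v hv hvW => by
    obtain ⟨n, hn, e⟩ := c.trans v hv
    set B' := B.map (MulAut.conj n⁻¹).toMonoidHom
    have hB'A : B' ≤ A := by
      rintro _ ⟨b, hb, rfl⟩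
      exact (mem_normalizer_iff.1 (inv_mem (le_normalizer_omegaCentre p N hn)) b).1 (hBA hb)
    have hB'C : B' ≤ centralizer ({z} : Set X) := by
      rintro _ ⟨b, hb, rfl⟩
      have h1 : b * v = v * b := mem_centralizer_iff.1 hvW b hb
      rw [← e] at h1
      refine mem_centralizer_singleton_iff.2 ?_
      change n⁻¹ * b * n⁻¹⁻¹ * z = z * (n⁻¹ * b * n⁻¹⁻¹)
      calc n⁻¹ * b * n⁻¹⁻¹ * z = n⁻¹ * (b * (n * z * n⁻¹)) * n := by group
        _ = n⁻¹ * (n * z * n⁻¹ * b) * n := by rw [h1]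
        _ = z * (n⁻¹ * b * n⁻¹⁻¹) := by group
    have hle : (centralizer ({z} : Set X)).relIndex A ≤ B'.relIndex A :=
      Nat.le_of_dvd (Nat.pos_of_ne_zero (index_ne_zero_of_finite (H := B'.subgroupOf A)))
        (relIndex_dvd_of_le_left A hB'C)
    have h2 : Nat.card B' * B'.relIndex A = Nat.card A := Coprime.card_mul_relIndex' hB'A
    rw [Coprime.card_conj_map] at h2
    have h3 : B'.relIndex A ≤ p :=
      Nat.le_of_mul_le_mul_left (h2.trans_le hcard) Nat.card_pos
    exact absurd ((hbig.trans hle).trans h3)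
      (not_le.2 (lt_self_pow₀ hp.out.one_lt one_lt_two))
  have hEW : E ≤ W := (fcore_le_centralizer_omegaCentre p N).trans (centralizer_le hBA)
  have hQW : fcore q N ≤ W := (fcore_le_centralizer_fcore hpq.symm N).trans
    (centralizer_le (hBA.trans (omegaCentre_le p N)))
  exact le_centralizer_of_normalized hpq (isSolvable_of_odd hWodd) (isPGroup_fcore p N)
    (isPGroup_fcore q N) hEW hQW (commutator_fcore_eq_bot hpq N)
    (by rw [c.normalizer_fcore hqN]; exact le_normalizer_fcore p N)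
    (hUq.to_le inf_le_left) inf_le_right
    ((le_inf hEU (hEW.trans le_normalizer)).trans inf_normalizer_le_normalizer_inf)

include c in
/-- The case of prime index, for `q < p`. -/
theorem le_centralizer_of_small {p q : ℕ} [hp : Fact p.Prime] [hq : Fact q.Prime] (hlt : q < p)
    (hpN : Cfsg.pCore p N ≠ ⊥) (hqN : Cfsg.pCore q N ≠ ⊥)
    (hidx : (centralizer ({z} : Set X)).relIndex (omegaCentre q N) = q) {s : X}
    (hs : ∀ x ∈ fcore p N, s⁻¹ * x * s ∈ N) (hs' : ∀ x ∈ fcore p N, s * x * s⁻¹ ∈ N)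
    (hsP : ∀ x ∈ fcore p N,
      s * x * s⁻¹ ∈ fcore p N ⊔ (fcore p N).map (MulAut.conj z).toMonoidHom) :
    fcore p N ≤ centralizer ((fcore q N).map (MulAut.conj s).toMonoidHom : Set X) := by
  have hpq : p ≠ q := hlt.ne'
  set E := fcore p N
  set U := (fcore q N).map (MulAut.conj s).toMonoidHom
  set A := omegaCentre q N
  set A₀ := A ⊓ centralizer ({z} : Set X)
  have hEU : E ≤ normalizer (U : Set X) := fun x hx => by
    rw [map_conj_normalizer, c.normalizer_fcore hqN, mem_map_conj]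
    exact hs x hx
  have hEA : E ≤ centralizer (A : Set X) :=
    (fcore_le_centralizer_fcore hpq N).trans (centralizer_le (omegaCentre_le q N))
  have hPA : E ⊔ E.map (MulAut.conj z).toMonoidHom ≤ centralizer (A₀ : Set X) := by
    refine sup_le (hEA.trans (centralizer_le inf_le_left)) ?_
    rintro _ ⟨e, he, rfl⟩
    refine mem_centralizer_iff.2 fun x hx => ?_
    have h1 : x * z = z * x := mem_centralizer_singleton_iff.1 hx.2
    have h2 : x * e = e * x := mem_centralizer_iff.1 (hEA he) x hx.1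
    change x * (z * e * z⁻¹) = z * e * z⁻¹ * x
    calc x * (z * e * z⁻¹) = z * (x * e) * z⁻¹ := by rw [← mul_assoc, ← mul_assoc, h1, mul_assoc z]
      _ = z * e * z⁻¹ * (z * x) * z⁻¹ := by rw [h2]; group
      _ = z * e * z⁻¹ * x := by rw [← h1]; group
  -- `s E s⁻¹` centralises `A`
  have hA : E.map (MulAut.conj s).toMonoidHom ≤ centralizer (A : Set X) := by
    rintro _ ⟨x, hx, rfl⟩
    set e := s * x * s⁻¹ with he
    have heA : e ∈ normalizer (A : Set X) := le_normalizer_omegaCentre q N (hs' x hx)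
    have he0 : e ∈ centralizer (A₀ : Set X) := hPA (hsP x hx)
    obtain ⟨k, hk⟩ := IsPGroup.iff_orderOf.1 (isPGroup_fcore p N) ⟨x, hx⟩
    have hek : e ^ (p ^ k) = 1 := by
      rw [he, ← MulAut.conj_apply, ← map_pow, ← hk, Subgroup.orderOf_mk, pow_orderOf_eq_one,
        map_one]
    have hmem : ∀ y, y ∈ A ∧ y ∉ A₀ ↔ e * y * e⁻¹ ∈ A ∧ e * y * e⁻¹ ∉ A₀ := fun y => by
      rw [← mem_normalizer_iff.1 heA y]
      refine and_congr_right fun _ => not_congr ⟨fun h => ?_, fun h => ?_⟩
      · rwa [← mem_centralizer_iff.1 he0 y h, mul_inv_cancel_right]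
      · have h1 := mem_centralizer_iff.1 he0 _ h
        rw [show e * y * e⁻¹ * e = e * y by group] at h1
        rwa [mul_left_cancel h1]
    classical
    letI := Fintype.ofFinite {y : X // y ∈ A ∧ y ∉ A₀}
    let σ : Equiv.Perm {y : X // y ∈ A ∧ y ∉ A₀} :=
      (MulAut.conj e).toEquiv.subtypeEquiv hmem
    have hσ : ∀ (j : ℕ) y, ((σ ^ j) y : X) = e ^ j * y * (e ^ j)⁻¹ := by
      intro j
      induction j with
      | zero => simp
      | succ j ih =>
        intro y
        rw [pow_succ', Equiv.Perm.mul_apply, pow_succ']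
        change e * ((σ ^ j) y : X) * e⁻¹ = _
        rw [ih]; group
    obtain ⟨y, hy⟩ : ∃ y, σ y = y := by
      refine Equiv.Perm.exists_fixed_point_of_prime (p := p) (n := k) ?_
        (Equiv.ext fun y => Subtype.ext (by rw [hσ, hek]; simp))
      intro hdvd
      have hc1 : Nat.card {y : X // y ∈ A ∧ y ∉ A₀} = Nat.card A₀ * (q - 1) := by
        have h1 : Nat.card A₀ * q = Nat.card A := by
          rw [← Coprime.card_mul_relIndex' (inf_le_left : A₀ ≤ A), inf_relIndex_left, hidx]
        have h2 : Nat.card {y : X // y ∈ A ∧ y ∉ A₀} = Nat.card ↥((A : Set X) \ A₀) := rfl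
        rw [h2, Nat.card_coe_set_eq, Set.ncard_sdiff (inf_le_left : A₀ ≤ A), ← Nat.card_coe_set_eq,
          ← Nat.card_coe_set_eq, Nat.mul_sub, mul_one, h1]
        rfl
      rw [← Nat.card_eq_fintype_card, hc1] at hdvd
      rcases (Nat.Prime.dvd_mul hp.out).1 hdvd with h | h
      · obtain ⟨n, hn⟩ := (((isPGroup_fcore q N).to_le (omegaCentre_le q N)).to_le
          (inf_le_left : A₀ ≤ A)).exists_card_eq
        rw [hn] at h
        exact hpq ((Nat.prime_dvd_prime_iff_eq hp.out hq.out).1 (hp.out.dvd_of_dvd_pow h))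
      · have := Nat.le_of_dvd (by have := hq.out.two_le; omega) h
        omega
    -- the fixed points exceed `A₀`, of prime index
    set D := A ⊓ centralizer ({e} : Set X)
    have hD0 : A₀ ≤ D := fun w hw => ⟨hw.1,
      mem_centralizer_singleton_iff.2 (mem_centralizer_iff.1 he0 w hw)⟩
    have hyD : (y : X) ∈ D := by
      refine ⟨y.2.1, mem_centralizer_singleton_iff.2 ?_⟩
      have h := congrArg Subtype.val hy
      change e * (y : X) * e⁻¹ = y at h
      exact (mul_inv_eq_iff_eq_mul.1 h).symm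
    have h1 : A₀.relIndex D * D.relIndex A = q := by
      rw [relIndex_mul_relIndex _ _ _ hD0 inf_le_left, inf_relIndex_left, hidx]
    rcases hq.out.eq_one_or_self_of_dvd _ (h1 ▸ dvd_mul_right _ _) with h | h
    · exact absurd (relIndex_eq_one.1 h hyD) y.2.2
    · rw [h, Nat.mul_eq_left hq.out.ne_zero, relIndex_eq_one] at h1
      exact mem_centralizer_iff.2 fun w hw => (mem_centralizer_singleton_iff.1 (h1 hw).2)
  -- hence `A` normalises `U`, and `C(A)` has odd order
  have hAU : A ≤ normalizer (U : Set X) := by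
    have heq : normalizer ((E.map (MulAut.conj s).toMonoidHom : Subgroup X) : Set X) =
        normalizer (U : Set X) := by
      rw [map_conj_normalizer, c.normalizer_fcore hpN, map_conj_normalizer,
        c.normalizer_fcore hqN]
    exact (le_centralizer_iff.1 hA).trans ((centralizer_le_normalizer _).trans heq.le)
  set W := centralizer (A : Set X)
  have hWodd : Odd (Nat.card W) := c.odd_of_no_involution fun v hv hvW =>
    c.notMem_normalizer_omegaCentre hqN hv (centralizer_le_normalizer _ hvW)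
  have hV : E ≤ centralizer ((U ⊓ W : Subgroup X) : Set X) :=
    le_centralizer_of_normalized hpq (isSolvable_of_odd hWodd) (isPGroup_fcore p N)
      (isPGroup_fcore q N) hEA (fcore_le_centralizer_omegaCentre q N)
      (commutator_fcore_eq_bot hpq N)
      (by rw [c.normalizer_fcore hqN]; exact le_normalizer_fcore p N)
      ((isPGroup_fcore q N).map _ |>.to_le inf_le_left) inf_le_right
      ((le_inf hEU (hEA.trans le_normalizer)).trans inf_normalizer_le_normalizer_inf)
  refine Coprime.le_centralizer_of_prod ((isPGroup_fcore q N).to_le (omegaCentre_le q N)) ?_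
    (commutator_eq_bot_iff_le_centralizer.2 (le_centralizer_iff.1 hEA))
    ((isPGroup_fcore q N).map _) hAU hEU (le_centralizer_iff.1 hV)
  obtain ⟨n, hn⟩ := (isPGroup_fcore p N).exists_card_eq
  rw [hn]
  exact ((Nat.coprime_primes hp.out hq.out).2 hpq).pow_left n

/-- The intersection of the cores `O_{s'}(N)` over the Fitting primes `s ≠ r`. -/
def otherCores (r : ℕ) (N : Subgroup X) : Subgroup N :=
  ⨅ (s : ℕ) (_ : s.Prime ∧ s ≠ r ∧ Cfsg.pCore s N ≠ ⊥), Cfsg.pPrimeCore s N

include c in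
/-- The end of the argument: `[F_p, F_q^{t^±}] = 1` for all `q ≠ p` is impossible. -/
theorem false_of_centralizes [Group.IsSolvable N] {p : ℕ} [hp : Fact p.Prime]
    (hpN : Cfsg.pCore p N ≠ ⊥) {t : X} (htN : t ∉ N) (ht : ∀ x ∈ fcore p N, t * x * t⁻¹ ∈ N)
    (h : ∀ q : ℕ, q.Prime → q ≠ p → Cfsg.pCore q N ≠ ⊥ →
      fcore p N ≤ centralizer ((fcore q N).map (MulAut.conj t).toMonoidHom : Set X)) : False := by
  obtain ⟨q, hq, hqp, hqN⟩ := c.exists_second_fitting_prime hpN
  haveI := Fact.mk hq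
  have hsub : ∀ r : ℕ, r.Prime → Cfsg.pCore r N ≠ ⊥ →
      (fcore r N).map (MulAut.conj t).toMonoidHom ≤ N := by
    intro r hr hrN
    by_cases hrp : r = p
    · subst hrp
      rintro _ ⟨x, hx, rfl⟩
      exact ht x hx
    · refine (le_centralizer_iff.1 (h r hr hrp hrN)).trans ?_
      exact (centralizer_le_normalizer _).trans (c.normalizer_fcore hpN).le
  -- each conjugated factor lies in the other cores
  have hin : ∀ r : ℕ, r.Prime → Cfsg.pCore r N ≠ ⊥ →
      ∀ x ∈ fcore r N, ∀ hx : t * x * t⁻¹ ∈ N, (⟨_, hx⟩ : N) ∈ otherCores r N := by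
    intro r hr hrN x hx hxN
    haveI := Fact.mk hr
    refine mem_iInf.2 fun s => mem_iInf.2 fun ⟨hs, hsr, hsN⟩ => ?_
    haveI := Fact.mk hs
    have h1 := le_pPrimeCore_of_normalizer_le (W := N) hsr.symm inferInstance
      ((isPGroup_fcore r N).map (MulAut.conj t).toMonoidHom)
      ((isPGroup_fcore s N).map (MulAut.conj t).toMonoidHom) (hsub r hr hrN) (hsub s hs hsN)
      (by rw [← map_commutator, commutator_fcore_eq_bot hsr.symm, Subgroup.map_bot])
      (by rw [map_conj_normalizer, map_conj_normalizer, c.normalizer_fcore hrN,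
        c.normalizer_fcore hsN])
    obtain ⟨y, hy, e⟩ := h1 ⟨x, hx, rfl⟩
    rwa [show (⟨_, hxN⟩ : N) = y from Subtype.ext e.symm]
  set Ip := otherCores p N with hIp
  set Iq := otherCores q N with hIq
  haveI hn1 : Ip.Normal := normal_iInf_normal fun s => normal_iInf_normal fun _ => inferInstance
  haveI hn2 : Iq.Normal := normal_iInf_normal fun s => normal_iInf_normal fun _ => inferInstance
  have hdis : Ip ⊓ Iq = ⊥ := eq_bot_of_coprime_fitting _ fun s hs hsN => by
    have hle : Ip ⊓ Iq ≤ Cfsg.pPrimeCore s N := by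
      by_cases hsp : s = p
      · exact inf_le_right.trans ((iInf_le _ s).trans (iInf_le _ ⟨hs, hsp ▸ hqp.symm, hsN⟩))
      · exact inf_le_left.trans ((iInf_le _ s).trans (iInf_le _ ⟨hs, hsp, hsN⟩))
    exact (Cores.coprime_card_pPrimeCore s).coprime_dvd_left (card_dvd_of_le hle)
  set Et := (fcore p N).map (MulAut.conj t).toMonoidHom
  set T := Et.subgroupOf N
  have hTI : T ≤ Ip := by
    rintro ⟨y, hy⟩ hyT
    obtain ⟨x, hx, rfl⟩ := mem_subgroupOf.1 hyT
    exact hin p hp.out hpN x hx hy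
  -- `Ip` normalises `Et`
  have hIpN : Ip.map N.subtype ≤ normalizer (Et : Set X) := by
    have heq : normalizer (((fcore q N).map (MulAut.conj t).toMonoidHom : Subgroup X) : Set X) =
        normalizer (Et : Set X) := by
      rw [map_conj_normalizer, c.normalizer_fcore hqN, map_conj_normalizer,
        c.normalizer_fcore hpN]
    refine le_trans ?_ ((centralizer_le_normalizer _).trans heq.le)
    rintro _ ⟨g, hg, rfl⟩
    refine mem_centralizer_iff.2 ?_
    rintro _ ⟨x, hx, rfl⟩
    have hxN : t * x * t⁻¹ ∈ N := hsub q hq hqN ⟨x, hx, rfl⟩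
    exact (congrArg Subtype.val (Subgroup.commute_of_normal_of_disjoint Ip Iq hn1 hn2
      (disjoint_iff.2 hdis) g ⟨_, hxN⟩ hg (hin q hq hqN x hx hxN)).eq).symm
  haveI : (T.subgroupOf Ip).Normal := (normal_subgroupOf_iff_le_normalizer hTI).2 (by
    rw [← subgroupOf_normalizer_eq (hsub p hp.out hpN)]
    exact fun g hg => hIpN ⟨g, hg, rfl⟩)
  have hTp : IsPGroup p (T.subgroupOf Ip) :=
    (((isPGroup_fcore p N).map _).of_equiv (subgroupOfEquivOfLe (hsub p hp.out hpN)).symm).of_equiv
      (subgroupOfEquivOfLe hTI).symm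
  have h1 := (Subgroup.map_mono (f := Ip.subtype) (Cores.le_pCore hTp)).trans
    (Cores.map_pCore_le p Ip)
  rw [map_subgroupOf_eq_of_le hTI] at h1
  have h2 := Subgroup.map_mono (f := N.subtype) h1
  rw [map_subgroupOf_eq_of_le (hsub p hp.out hpN)] at h2
  exact htN ((c.normalizer_fcore hpN).le (Coprime.mem_normalizer_of_conj_map_le (Coprime.conj_map_le_iff.1 h2)))

include c in
/-- The configuration does not exist. -/
theorem false_of_oddConfig : False := by
  classical
  haveI := isSolvable_of_odd c.odd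
  obtain ⟨p₀, hp₀, hp₀N⟩ := c.exists_fitting_prime
  -- the choice of the prime
  obtain ⟨p, hp, hpN, hcase⟩ : ∃ p : ℕ, p.Prime ∧ Cfsg.pCore p N ≠ ⊥ ∧
      (p ^ 2 ≤ (centralizer ({z} : Set X)).relIndex (omegaCentre p N) ∨
        ∀ q : ℕ, q.Prime → q ≠ p → Cfsg.pCore q N ≠ ⊥ →
          q < p ∧ (centralizer ({z} : Set X)).relIndex (omegaCentre q N) = q) := by
    by_cases hbig : ∃ p : ℕ, p.Prime ∧ Cfsg.pCore p N ≠ ⊥ ∧
        p ^ 2 ≤ (centralizer ({z} : Set X)).relIndex (omegaCentre p N)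
    · obtain ⟨p, h1, h2, h3⟩ := hbig
      exact ⟨p, h1, h2, .inl h3⟩
    push Not at hbig
    let π := (Nat.card N).primeFactors.filter fun r => Cfsg.pCore r N ≠ ⊥
    have hmem : ∀ r : ℕ, r.Prime → Cfsg.pCore r N ≠ ⊥ → r ∈ π := fun r hr hrN => by
      haveI := Fact.mk hr
      refine Finset.mem_filter.2 ⟨Nat.mem_primeFactors.2 ⟨hr, ?_, Nat.card_pos.ne'⟩, hrN⟩
      obtain ⟨k, hk⟩ := (Cores.isPGroup_pCore (G := N) r).exists_card_eq
      have hk0 : k ≠ 0 := fun e => hrN (eq_bot_of_card_eq _ (by rw [hk, e, pow_zero]))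
      exact (dvd_pow_self r hk0).trans (hk ▸ card_subgroup_dvd_card _)
    have hne : π.Nonempty := ⟨p₀, hmem p₀ hp₀ hp₀N⟩
    obtain ⟨hpm, hpN⟩ := Finset.mem_filter.1 (π.max'_mem hne)
    refine ⟨π.max' hne, Nat.prime_of_mem_primeFactors hpm, hpN, .inr fun q hq hqp hqN => ?_⟩
    haveI := Fact.mk hq
    refine ⟨lt_of_le_of_ne (π.le_max' q (hmem q hq hqN)) hqp, ?_⟩
    obtain ⟨k, hk1, hk⟩ := c.exists_relIndex_eq (r := q) hqN
    have hk2 : k < 2 := (Nat.pow_lt_pow_iff_right hq.one_lt).1 (hk ▸ hbig q hq hqN)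
    rw [hk, show k = 1 by omega, pow_one]
  haveI := Fact.mk hp
  set E := fcore p N
  set P := E ⊔ E.map (MulAut.conj z).toMonoidHom
  have hPp : IsPGroup p P :=
    c.isPGroup_sup_conj (fcore_le p N) (isPGroup_fcore p N) (le_normalizer_fcore p N)
  -- the element `t`
  obtain ⟨t, htN, ht1, ht2, ht3, ht4⟩ : ∃ t : X, t ∉ N ∧ (∀ x ∈ E, t * x * t⁻¹ ∈ N) ∧
      (∀ x ∈ E, t⁻¹ * x * t ∈ N) ∧ (∀ x ∈ E, t * x * t⁻¹ ∈ P) ∧
      (∀ x ∈ E, t⁻¹ * x * t ∈ P) := by
    by_cases hP : P ≤ N
    · have hz : ∀ x ∈ E, z * x * z⁻¹ ∈ P := fun x hx => mem_sup_right ⟨x, hx, rfl⟩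
      refine ⟨z, c.notMem, fun x hx => hP (hz x hx), fun x hx => ?_, hz, fun x hx => ?_⟩
      · rw [← c.inv_conj]; exact hP (hz x hx)
      · rw [← c.inv_conj]; exact hz x hx
    · have hlt : P ⊓ N < P := lt_of_le_of_ne inf_le_left fun e => hP (e ▸ inf_le_right)
      obtain ⟨t, ⟨htP, htn⟩, ht⟩ :=
        SetLike.exists_of_lt (Coprime.lt_normalizer_inf_of_lt hPp hlt)
      have hE : ∀ x ∈ E, x ∈ P ⊓ N := fun x hx => ⟨mem_sup_left hx, fcore_le p N hx⟩
      have h1 : ∀ x ∈ E, t * x * t⁻¹ ∈ P ⊓ N := fun x hx =>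
        (mem_normalizer_iff.1 htn x).1 (hE x hx)
      have h2 : ∀ x ∈ E, t⁻¹ * x * t ∈ P ⊓ N := fun x hx => by
        simpa using (mem_normalizer_iff.1 (inv_mem htn) x).1 (hE x hx)
      exact ⟨t, fun h => ht ⟨htP, h⟩, fun x hx => (h1 x hx).2, fun x hx => (h2 x hx).2,
        fun x hx => (h1 x hx).1, fun x hx => (h2 x hx).1⟩
  refine c.false_of_centralizes hpN htN ht1 fun q hq hqp hqN => ?_
  haveI := Fact.mk hq
  rcases hcase with hbig | hsmall
  · exact c.le_centralizer_of_big hqp.symm hpN hqN hbig ht2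
  · exact c.le_centralizer_of_small (hsmall q hq hqp hqN).1 hpN hqN (hsmall q hq hqp hqN).2
      ht2 ht1 ht3

end OddConfig

end CfsgLib.LocalEven.BenderTransitive
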