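import Cfsg.Agent.Lib.LocalEven.BenderTransitive.Stabilizer
import Cfsg.Agent.Lib.LocalEven.BenderTransitive.OddConfigFinal

/-!
# Bender's transitivity theorem

A strongly embedded subgroup of a group with two distinct commuting involutions is transitive on
its other cosets: the group acts doubly transitively.
-/

set_option autoImplicit false

namespace CfsgLib.LocalEven.BenderTransitive

open Subgroup MulAction CfsgLib.Involution.Dihedral CfsgLib.Involution CfsgLib.Solvable

universe u

variable {G : Type u} [Group G] [Finite G] {H : Subgroup G}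

theorem map_inf_conj {A B : Type*} [Group A] [Group B] (f : A →* B) (hf : Function.Injective f)
    (K : Subgroup A) (z : A) :
    (K ⊓ K.map (MulAut.conj z).toMonoidHom).map f =
      K.map f ⊓ (K.map f).map (MulAut.conj (f z)).toMonoidHom := by
  rw [Subgroup.map_inf _ _ _ hf]
  congr 1
  ext x
  constructor
  · rintro ⟨_, ⟨k, hk, rfl⟩, rfl⟩
    exact ⟨f k, ⟨k, hk, rfl⟩, by simp⟩
  · rintro ⟨_, ⟨k, hk, rfl⟩, rfl⟩
    exact ⟨z * k * z⁻¹, ⟨k, hk, rfl⟩, by simp⟩

/-- If some two distinct involutions commute, every involution commutes with another. -/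
theorem exists_commuting (hH : Cfsg.IsStronglyEmbedded H)
    (hcomm : ∃ x y : G, orderOf x = 2 ∧ orderOf y = 2 ∧ x ≠ y ∧ Commute x y) {z : G}
    (hz : orderOf z = 2) : ∃ w, orderOf w = 2 ∧ w ≠ z ∧ Commute w z := by
  obtain ⟨x, y, hx, hy, hne, hxy⟩ := hcomm
  obtain ⟨g, rfl⟩ := isConj_iff.1 (SE.all_conj hH hx hz)
  exact ⟨g * y * g⁻¹, (orderOf_conj g y).trans hy,
    fun h => hne ((MulAut.conj g).injective h).symm, hxy.symm.map (MulAut.conj g).toMonoidHom⟩

/-- **Bender's transitivity theorem.** -/
theorem pairTransitive (hH : Cfsg.IsStronglyEmbedded H)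
    (hcomm : ∃ x y : G, orderOf x = 2 ∧ orderOf y = 2 ∧ x ≠ y ∧ Commute x y) :
    PairTransitive H := by
  classical
  by_contra hnt
  set o : G ⧸ H := ((1 : G) : G ⧸ H)
  have hstab : stabilizer G o = H := stabilizer_quotient H
  obtain ⟨b, hb⟩ : ∃ b : G ⧸ H, o ≠ b := by
    by_contra h
    push Not at h
    apply hnt
    intro a c c' hc
    exact absurd ((h c).symm.trans (h a)) hc
  obtain ⟨z, hzH, hz⟩ := Basic.exists_involution_of_even H hH.2.1
  have hzo : z • o = o := mem_stabilizer_iff.1 (hstab.symm ▸ hzH)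
  have hDH : stab2 o b ≤ H := inf_le_left.trans hstab.le
  -- a maximal subgroup of odd order
  set O := Cfsg.oddCore H with hO
  haveI hOn : O.Normal := ZStar.oddCore_normal
  have hD0 : Odd (Nat.card ↥((stab2 o b).subgroupOf H ⊔ O)) := by
    have h := Solvable.Basic.card_sup_mul O ((stab2 o b).subgroupOf H)
    rw [Nat.card_congr (subgroupOfEquivOfLe hDH).toEquiv] at h
    exact ((odd_stab2 hH hb).mul ZStar.odd_card_oddCore).of_dvd_nat ⟨_, h.symm⟩
  obtain ⟨K, hK₀, hK⟩ := Finite.exists_le_maximal
    (p := fun K : Subgroup H => (stab2 o b).subgroupOf H ⊔ O ≤ K ∧ Odd (Nat.card K)) ⟨le_rfl, hD0⟩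
  have hOK : O ≤ K := le_sup_right.trans hK₀
  set π := QuotientGroup.mk' O
  have hker : π.ker = O := QuotientGroup.ker_mk' O
  have hsurj : Function.Surjective π := QuotientGroup.mk'_surjective O
  set N := K.map π
  have hNK : N.comap π = K := by
    rw [comap_map_eq, hker, sup_eq_left.2 hOK]
  set z' : H := ⟨z, hzH⟩
  have hz' : orderOf z' = 2 := (orderOf_mk z hzH).trans hz
  -- involutions of `H` are not in the odd core
  have hnotO : ∀ x : H, orderOf x = 2 → π x ≠ 1 := by
    intro x hx h
    have hmem : x ∈ O := (QuotientGroup.eq_one_iff x).1 h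
    exact Nat.not_even_iff_odd.2 (ZStar.odd_orderOf_of_mem hmem) (hx.symm ▸ even_two)
  have horder : ∀ x : H, orderOf x = 2 → orderOf (π x) = 2 := fun x hx =>
    orderOf_eq_two (by rw [← map_mul, mul_self hx, map_one]) (hnotO x hx)
  have hconfig : OddConfig N (π z') := by
    refine ⟨horder z' hz', ?_, ?_, ?_, ?_, ?_, ?_⟩
    · obtain ⟨w, hw, hwz, hwc⟩ := exists_commuting hH hcomm hz
      have hwH : w ∈ H := hstab ▸ mem_stabilizer_iff.2 (SE.commute_fixes hH hz hzo hwc)
      refine ⟨π ⟨w, hwH⟩, horder _ ((orderOf_mk w hwH).trans hw), fun h => ?_,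
        (show Commute (⟨w, hwH⟩ : H) z' from Subtype.ext hwc.eq).map π⟩
      refine hnotO (⟨w, hwH⟩ * z') (orderOf_eq_two ?_ ?_) ?_
      · apply Subtype.ext
        show w * z * (w * z) = 1
        rw [hwc.symm.mul_mul_mul_comm, mul_self hw, mul_self hz, one_mul]
      · intro h1
        have h2 : w * z = 1 := congrArg Subtype.val h1
        exact hwz ((mul_eq_one_iff_eq_inv.1 h2).trans (inv_eq hz))
      · rw [map_mul, h]; exact mul_self (horder z' hz')
    · intro M hM hModd
      have h1 : Odd (Nat.card (M.comap π)) := by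
        rw [Solvable.Basic.card_comap_mk]
        first
          | exact hModd.mul ZStar.odd_card_oddCore
          | exact ZStar.odd_card_oddCore.mul hModd
      have h2 := Subgroup.map_mono (f := π) (ZStar.le_oddCore (hM.comap π) h1)
      rwa [map_comap_eq_self_of_surjective hsurj, QuotientGroup.map_mk'_self, le_bot_iff] at h2
    · exact hK.prop.2.of_dvd_nat (card_map_dvd _ _)
    · intro M hNM hModd
      have h1 : Odd (Nat.card (M.comap π)) := by
        rw [Solvable.Basic.card_comap_mk]
        first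
          | exact hModd.mul ZStar.odd_card_oddCore
          | exact ZStar.odd_card_oddCore.mul hModd
      have hKM : K ≤ M.comap π := fun x hx => hNM ⟨x, hx, rfl⟩
      have h2 := hK.le_of_ge ⟨hK₀.trans hKM, h1⟩ hKM
      refine le_antisymm ?_ hNM
      rw [← map_comap_eq_self_of_surjective hsurj M]
      exact Subgroup.map_mono h2
    · intro v hv
      obtain ⟨x, rfl⟩ := hsurj v
      obtain ⟨k, hk⟩ : Odd (Nat.card O) := ZStar.odd_card_oddCore
      set t := x ^ (2 * k + 1)
      have hxx : x * x ∈ O := by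
        rw [← QuotientGroup.eq_one_iff]
        change π (x * x) = 1
        rw [map_mul, mul_self hv]
      have hπt : π t = π x := by
        rw [map_pow, pow_succ, pow_mul, pow_two, mul_self hv, one_pow, one_mul]
      have ht : orderOf t = 2 := by
        refine orderOf_eq_two ?_ fun h => ne_one hv (by rw [← hπt, h, map_one])
        rw [← pow_two, ← pow_mul, mul_comm, pow_mul, pow_two, ← hk]
        exact congrArg Subtype.val (pow_card_eq_one' (x := (⟨x * x, hxx⟩ : O)))
      have hto : (t : G) • o = o := mem_stabilizer_iff.1 (hstab.symm ▸ t.2)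
      obtain ⟨d, hd, e⟩ := exists_conj_fixing hH hb hz hzo
        ((orderOf_coe t).trans ht) hto
      refine ⟨π ⟨d, hDH hd⟩, ⟨_, hK₀ (mem_sup_left hd), rfl⟩, ?_⟩
      rw [← hπt, ← map_inv, ← map_mul, ← map_mul]
      exact congrArg π (Subtype.ext e)
    · intro r hr
      haveI := Fact.mk hr
      set KG := K.map H.subtype
      have hDK : stab2 o b ≤ KG := fun d hd => ⟨⟨d, hDH hd⟩, hK₀ (mem_sup_left hd), rfl⟩
      have hKGo : KG ≤ stabilizer G o := (map_subtype_le K).trans hstab.ge
      rcases exists_sylow_or hH hnt hb hDK hKGo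
        (by rw [Coprime.card_map_subtype]; exact hK.prop.2) hz hzo r with ⟨T, hT, hTc, hzT⟩ | h
      · left
        rw [hstab] at hT hTc
        obtain ⟨P, hP⟩ := Coprime.exists_sylow_map_eq hT hTc
        refine ⟨P.mapSurjective hsurj, ?_⟩
        have hzP : z' ∈ normalizer ((P : Subgroup H) : Set H) := by
          refine Coprime.mem_normalizer_of_conj_map_le fun y hy => ?_
          have h1 : (y : G) ∈ T := hP ▸ ⟨y, hy, rfl⟩
          have h2 : z * y * z⁻¹ ∈ T := (mem_normalizer_iff.1 hzT y).1 h1
          rw [← hP] at h2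
          obtain ⟨y', hy', e⟩ := h2
          rwa [show z' * y * z'⁻¹ = y' from Subtype.ext e.symm]
        exact le_normalizer_map π ⟨z', hzP, rfl⟩
      · right
        intro hdvd
        apply h
        have e1 : (N ⊓ N.map (MulAut.conj (π z')).toMonoidHom).comap π =
            K ⊓ K.map (MulAut.conj z').toMonoidHom := by
          rw [comap_inf, hNK]
          congr 1
          ext x
          rw [mem_comap, mem_map_conj, mem_map_conj, ← map_inv, ← map_mul, ← map_mul, ← mem_comap,
            hNK]
        have e2 : (N ⊓ N.map (MulAut.conj (π z')).toMonoidHom).relIndex N =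
            (K ⊓ K.map (MulAut.conj z').toMonoidHom).relIndex K := by
          rw [← e1, relIndex_comap]
        rw [e2, ← relIndex_map_map_of_injective _ _ H.subtype_injective,
          map_inf_conj _ H.subtype_injective] at hdvd
        exact hdvd
  exact hconfig.false_of_oddConfig

/-- The double transitivity in terms of elements of `G`. -/
theorem exists_smul_mem (hH : Cfsg.IsStronglyEmbedded H)
    (hcomm : ∃ x y : G, orderOf x = 2 ∧ orderOf y = 2 ∧ x ≠ y ∧ Commute x y) (g₁ g₂ : G)
    (h₁ : g₁ ∉ H) (h₂ : g₂ ∉ H) : ∃ h ∈ H, g₂⁻¹ * (h * g₁) ∈ H := by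
  have hne : ∀ g : G, g ∉ H → (g : G ⧸ H) ≠ ((1 : G) : G ⧸ H) := fun g hg h =>
    hg (by simpa using QuotientGroup.eq.1 h.symm)
  obtain ⟨k, hk, e⟩ := pairTransitive hH hcomm _ _ _ (hne g₁ h₁) (hne g₂ h₂)
  have hkH : k ∈ H := by
    rw [← stabilizer_quotient H]; exact mem_stabilizer_iff.2 hk
  refine ⟨k, hkH, ?_⟩
  rw [MulAction.Quotient.smul_mk, smul_eq_mul] at e
  exact QuotientGroup.eq.1 e.symm

end CfsgLib.LocalEven.BenderTransitive
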