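import Cfsg.Agent.Lib.LocalEven.BenderTransitive.PrimeCores
import Cfsg.Agent.Lib.Involution.Basic

/-!
# Maximal subgroups of odd order transitive on the involutions

The configuration met in the point stabiliser in the proof of Bender's transitivity theorem: a
group without nontrivial normal subgroups of odd order, a maximal subgroup `N` of odd order
transitive by conjugation on the involutions, and, for every prime `r`, either an invariant
Sylow `r`-subgroup for the involution `z` or `r` prime to `|N : N ∩ N^z|`.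
-/

set_option autoImplicit false

namespace CfsgLib.LocalEven.BenderTransitive

open Subgroup CfsgLib.Solvable CfsgLib.Involution.Dihedral
open scoped commutatorElement

variable {X : Type*} [Group X]

/-- The configuration. -/
structure OddConfig (N : Subgroup X) (z : X) : Prop where
  inv : orderOf z = 2
  other : ∃ w, orderOf w = 2 ∧ w ≠ z ∧ Commute w z
  oddFree : ∀ M : Subgroup X, M.Normal → Odd (Nat.card M) → M = ⊥
  odd : Odd (Nat.card N)
  maximal : ∀ M : Subgroup X, N ≤ M → Odd (Nat.card M) → M = N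
  trans : ∀ v, orderOf v = 2 → ∃ n ∈ N, n * z * n⁻¹ = v
  sylowOr : ∀ r : ℕ, r.Prime →
    (∃ R : Sylow r X, z ∈ normalizer ((R : Subgroup X) : Set X)) ∨
      ¬ r ∣ (N ⊓ N.map (MulAut.conj z).toMonoidHom).relIndex N

theorem map_conj_normalizer (H : Subgroup X) (t : X) :
    normalizer ((H.map (MulAut.conj t).toMonoidHom : Subgroup X) : Set X) =
      (normalizer (H : Set X)).map (MulAut.conj t).toMonoidHom :=
  (map_equiv_normalizer_eq H (MulAut.conj t)).symm

theorem mem_map_conj {H : Subgroup X} {t x : X} :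
    x ∈ H.map (MulAut.conj t).toMonoidHom ↔ t⁻¹ * x * t ∈ H := by
  constructor
  · rintro ⟨y, hy, rfl⟩
    simpa [mul_assoc] using hy
  · intro h
    exact ⟨_, h, by simp [mul_assoc]⟩

theorem map_conj_conj (H : Subgroup X) (s t : X) :
    (H.map (MulAut.conj t).toMonoidHom).map (MulAut.conj s).toMonoidHom =
      H.map (MulAut.conj (s * t)).toMonoidHom := by
  ext x
  simp only [mem_map_conj, mul_inv_rev, mul_assoc]

/-- Subgroups of index prime to `r` contain Sylow `r`-subgroups. -/
theorem factorization_card_eq [Finite X] {M N : Subgroup X} (hMN : M ≤ N) {r : ℕ} (hr : r.Prime)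
    (h : ¬ r ∣ M.relIndex N) : (Nat.card M).factorization r = (Nat.card N).factorization r := by
  have h0 : M.relIndex N ≠ 0 := fun e => h (by rw [e]; exact dvd_zero r)
  rw [← Coprime.card_mul_relIndex' hMN, Nat.factorization_mul Nat.card_pos.ne' h0,
    Finsupp.add_apply, Nat.factorization_eq_zero_of_not_dvd h, add_zero]

namespace OddConfig

variable {N : Subgroup X} {z : X} (c : OddConfig N z)

include c in
theorem factor (g : X) : ∃ n ∈ N, ∃ k, Commute k z ∧ g = n * k := by
  obtain ⟨n, hn, e⟩ := c.trans (g * z * g⁻¹) ((orderOf_conj g z).trans c.inv)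
  refine ⟨n, hn, n⁻¹ * g, ?_, by group⟩
  show n⁻¹ * g * z = z * (n⁻¹ * g)
  calc n⁻¹ * g * z = n⁻¹ * (g * z * g⁻¹) * g := by group
    _ = n⁻¹ * (n * z * n⁻¹) * g := by rw [e]
    _ = z * (n⁻¹ * g) := by group

include c in
theorem inv_conj {x : X} : z * x * z⁻¹ = z⁻¹ * x * z := by rw [inv_eq c.inv]

include c in
theorem mem_normalizer_inf :
    z ∈ normalizer ((N ⊓ N.map (MulAut.conj z).toMonoidHom : Subgroup X) : Set X) := by
  rw [mem_normalizer_iff]
  intro x
  simp only [mem_inf, mem_map_conj]
  have e : z⁻¹ * (z * x * z⁻¹) * z = x := by group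
  rw [e, c.inv_conj]
  tauto

section Finite

variable [Finite X]

include c in
theorem odd_of_no_involution {M : Subgroup X} (h : ∀ v, orderOf v = 2 → v ∉ M) :
    Odd (Nat.card M) := by
  rw [← Nat.not_even_iff_odd]
  intro he
  obtain ⟨v, hv, hv2⟩ := CfsgLib.Involution.Basic.exists_involution_of_even M he
  exact h v hv2 hv

include c in
theorem prime_ne_two {r : ℕ} (h : r ∣ Nat.card N) : r ≠ 2 := by
  rintro rfl
  exact Nat.not_even_iff_odd.2 c.odd (even_iff_two_dvd.2 h)

include c in
theorem not_all_commute_z : ∃ v, orderOf v = 2 ∧ ¬ Commute v z := by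
  by_contra hall
  push Not at hall
  set C := centralizer ({z} : Set X) with hC
  -- `z` is not central
  have hCtop : C ≠ ⊤ := by
    intro h
    obtain ⟨w, hw, hwz, -⟩ := c.other
    obtain ⟨n, -, e⟩ := c.trans w hw
    have hn : n ∈ C := h ▸ mem_top n
    rw [mem_centralizer_singleton_iff.1 hn, mul_inv_cancel_right] at e
    exact hwz e.symm
  -- the index of the centraliser is taken inside `N`
  have hidx : C.relIndex N = C.index := by
    let f : N ⧸ C.subgroupOf N → X ⧸ C := Quotient.map' (Subtype.val : N → X) (fun a b h => by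
      rw [QuotientGroup.leftRel_apply] at h ⊢
      exact h)
    refine Nat.card_eq_of_bijective f ⟨?_, ?_⟩
    · rintro ⟨a⟩ ⟨b⟩ h
      exact QuotientGroup.eq.2 (mem_subgroupOf.2 (QuotientGroup.eq.1 h))
    · rintro ⟨g⟩
      obtain ⟨n, hn, k, hk, rfl⟩ := c.factor g
      refine ⟨QuotientGroup.mk ⟨n, hn⟩, QuotientGroup.eq.2 ?_⟩
      simpa using mem_centralizer_singleton_iff.2 hk.eq
  obtain ⟨r, hr, hrd⟩ := Nat.exists_prime_and_dvd (index_eq_one.not.2 hCtop)
  have hrN : r ∣ Nat.card N := hrd.trans (hidx ▸ relIndex_dvd_card C N)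
  have hr2 := c.prime_ne_two hrN
  have hcomm : ∀ x : X, (⁅x, z⁆ : X) * ⁅x, z⁆ = 1 := by
    intro x
    have hc : Commute (x * z * x⁻¹) z := hall _ ((orderOf_conj x z).trans c.inv)
    rw [commutatorElement_def]
    calc x * z * x⁻¹ * z⁻¹ * (x * z * x⁻¹ * z⁻¹)
        = x * z * x⁻¹ * (z⁻¹ * (x * z * x⁻¹)) * z⁻¹ := by group
      _ = x * z * x⁻¹ * (x * z * x⁻¹ * z⁻¹) * z⁻¹ := by rw [hc.inv_right.eq]
      _ = x * (z * z) * x⁻¹ * (z * z)⁻¹ := by group
      _ = 1 := by rw [mul_self c.inv]; group
  have key : ∀ M : Subgroup X, Odd (Nat.card M) → z ∈ normalizer (M : Set X) → M ≤ C := by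
    intro M hM hzM x hx
    have h1 : ⁅x, z⁆ ∈ M := by
      rw [commutatorElement_def, mul_assoc, mul_assoc, ← mul_assoc z x⁻¹]
      exact mul_mem hx ((mem_normalizer_iff.1 hzM _).1 (inv_mem hx))
    have h2 : ⁅x, z⁆ = 1 := by
      rw [← orderOf_eq_one_iff]
      have h3 : orderOf ⁅x, z⁆ ∣ 2 := orderOf_dvd_of_pow_eq_one (by rw [pow_two]; exact hcomm x)
      have h4 : Odd (orderOf ⁅x, z⁆) := hM.of_dvd_nat (orderOf_dvd_natCard M h1)
      rcases (Nat.dvd_prime Nat.prime_two).1 h3 with e | e
      · exact e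
      · rw [e] at h4; exact absurd h4 (by decide)
    exact mem_centralizer_singleton_iff.2 (commutatorElement_eq_one_iff_mul_comm.1 h2)
  rcases c.sylowOr r hr with ⟨R, hR⟩ | hnd
  · haveI := Fact.mk hr
    have hRodd : Odd (Nat.card R) := by
      obtain ⟨k, hk⟩ := R.isPGroup'.exists_card_eq
      rw [hk]; exact (hr.odd_of_ne_two hr2).pow
    exact R.not_dvd_index' Subgroup.index_ne_zero_of_finite
      (hrd.trans (index_dvd_of_le (key R hRodd hR)))
  · apply hnd
    have hMC : N ⊓ N.map (MulAut.conj z).toMonoidHom = N ⊓ C := by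
      refine le_antisymm (le_inf inf_le_left
        (key _ (c.odd.of_dvd_nat (card_dvd_of_le inf_le_left)) c.mem_normalizer_inf)) ?_
      rintro x ⟨hx, hxc⟩
      refine ⟨hx, mem_map_conj.2 ?_⟩
      rw [mul_assoc, mem_centralizer_singleton_iff.1 hxc, ← mul_assoc, inv_mul_cancel, one_mul]
      exact hx
    rwa [hMC, inf_relIndex_left, hidx]

include c in
/-- The involutions generate a subgroup with trivial centraliser. -/
theorem centralizer_involutions_eq_bot :
    centralizer ((closure {v : X | orderOf v = 2} : Subgroup X) : Set X) = ⊥ := by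
  haveI hn : (closure {v : X | orderOf v = 2}).Normal := by
    refine ⟨fun x hx g => ?_⟩
    induction hx using closure_induction with
    | mem v hv => exact subset_closure ((orderOf_conj g v).trans hv)
    | one => simp
    | mul a b _ _ ha hb =>
      have := mul_mem ha hb
      simpa [mul_assoc] using this
    | inv a _ ha =>
      have := inv_mem ha
      simpa [mul_assoc] using this
  refine c.oddFree _ inferInstance (c.odd_of_no_involution fun i hi hmem => ?_)
  obtain ⟨v, hv, hvz⟩ := c.not_all_commute_z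
  obtain ⟨n, -, e⟩ := c.trans i hi
  apply hvz
  have h1 : n * v * n⁻¹ * i = i * (n * v * n⁻¹) :=
    mem_centralizer_iff.1 hmem _ (subset_closure ((orderOf_conj n v).trans hv))
  rw [← e] at h1
  show v * z = z * v
  calc v * z = n⁻¹ * (n * v * n⁻¹ * (n * z * n⁻¹)) * n := by group
    _ = n⁻¹ * (n * z * n⁻¹ * (n * v * n⁻¹)) * n := by rw [h1]
    _ = z * v := by group

include c in
/-- No involution normalises a nontrivial normal `r`-subgroup of `N`. -/
theorem not_normalizes {r : ℕ} [hr : Fact r.Prime] {E : Subgroup X} (hEN : E ≤ N)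
    (hE : IsPGroup r E) (hne : E ≠ ⊥) (hN : N ≤ normalizer (E : Set X)) {v : X}
    (hv : orderOf v = 2) : v ∉ normalizer (E : Set X) := by
  intro hvn
  apply hne
  set L := closure {v : X | orderOf v = 2}
  haveI hLn : L.Normal := by
    refine ⟨fun x hx g => ?_⟩
    induction hx using closure_induction with
    | mem v hv => exact subset_closure ((orderOf_conj g v).trans hv)
    | one => simp
    | mul a b _ _ ha hb =>
      have := mul_mem ha hb
      simpa [mul_assoc] using this
    | inv a _ ha =>
      have := inv_mem ha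
      simpa [mul_assoc] using this
  obtain ⟨n, hn, e⟩ := c.trans v hv
  have hz : z ∈ normalizer (E : Set X) := by
    have := mul_mem (mul_mem (inv_mem (hN hn)) hvn) (hN hn)
    rwa [← e, show n⁻¹ * (n * z * n⁻¹) * n = z by group] at this
  have hL : L ≤ normalizer (E : Set X) := (closure_le _).2 fun w hw => by
    obtain ⟨m, hm, e'⟩ := c.trans w hw
    exact e' ▸ mul_mem (mul_mem (hN hm) hz) (inv_mem (hN hm))
  have hr2 : r ≠ 2 := c.prime_ne_two (by
    obtain ⟨k, hk⟩ := hE.exists_card_eq
    rcases k with _ | k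
    · exact absurd (card_eq_one.1 (by simpa using hk)) hne
    · exact (dvd_pow_self r k.succ_ne_zero).trans (hk ▸ card_dvd_of_le hEN))
  -- the intersection is in the trivial `r`-core of `L`
  have hK : L ⊓ E = ⊥ := by
    haveI : ((L ⊓ E).subgroupOf L).Normal :=
      (normal_subgroupOf_iff_le_normalizer inf_le_left).2
        ((le_inf le_normalizer hL).trans inf_normalizer_le_normalizer_inf)
    have h1 : (L ⊓ E).subgroupOf L ≤ Cfsg.pCore r L :=
      Cores.le_pCore ((hE.to_le inf_le_right).of_equiv (subgroupOfEquivOfLe inf_le_left).symm)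
    have h2 : Cfsg.pCore r X = ⊥ := by
      refine c.oddFree _ inferInstance ?_
      obtain ⟨k, hk⟩ := (Cores.isPGroup_pCore (G := X) r).exists_card_eq
      rw [hk]; exact (hr.out.odd_of_ne_two hr2).pow
    have h3 := (Subgroup.map_mono (f := L.subtype) h1).trans (Cores.map_pCore_le r L)
    rwa [h2, map_subgroupOf_eq_of_le inf_le_left, le_bot_iff] at h3
  refine le_bot_iff.1 (c.centralizer_involutions_eq_bot ▸ fun x hx =>
    mem_centralizer_iff.2 fun l hl => commutatorElement_eq_one_iff_mul_comm.1 ?_)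
  rw [← mem_bot, ← hK]
  refine ⟨?_, ?_⟩
  · rw [commutatorElement_def, mul_assoc, mul_assoc, ← mul_assoc x l⁻¹]
    exact mul_mem hl (hLn.conj_mem _ (inv_mem hl) x)
  · rw [commutatorElement_def]
    exact E.mul_mem ((mem_normalizer_iff.1 (hL hl) _).1 hx) (E.inv_mem hx)

include c in
/-- The normaliser of a nontrivial normal `r`-subgroup of `N` is `N`. -/
theorem normalizer_eq {r : ℕ} [Fact r.Prime] {E : Subgroup X} (hEN : E ≤ N)
    (hE : IsPGroup r E) (hne : E ≠ ⊥) (hN : N ≤ normalizer (E : Set X)) :
    normalizer (E : Set X) = N :=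
  c.maximal _ hN (c.odd_of_no_involution fun _ hv => c.not_normalizes hEN hE hne hN hv)

include c in
/-- A normal `r`-subgroup of `N` and its conjugate under `z` generate an `r`-group. -/
theorem isPGroup_sup_conj {r : ℕ} [hr : Fact r.Prime] {E : Subgroup X} (hEN : E ≤ N)
    (hE : IsPGroup r E) (hN : N ≤ normalizer (E : Set X)) :
    IsPGroup r ↥(E ⊔ E.map (MulAut.conj z).toMonoidHom) := by
  rcases c.sylowOr r hr.out with ⟨R, hR⟩ | hnd
  · obtain ⟨R₀, hR₀⟩ := hE.exists_le_sylow
    obtain ⟨g, rfl⟩ := MulAction.exists_smul_eq X R R₀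
    obtain ⟨n, hn, k, hk, rfl⟩ := c.factor g
    set R' := (R : Subgroup X).map (MulAut.conj k).toMonoidHom
    have hER : E ≤ R' := by
      intro x hx
      have h1 : n * x * n⁻¹ ∈ E := (mem_normalizer_iff.1 (hN hn) x).1 hx
      have h2 : n * x * n⁻¹ ∈ (((n * k) • R : Sylow r X) : Subgroup X) := hR₀ h1
      rw [Sylow.coe_subgroup_smul] at h2
      have h3 : n * x * n⁻¹ ∈ (R : Subgroup X).map (MulAut.conj (n * k)).toMonoidHom := h2
      rw [mem_map_conj] at h3 ⊢
      convert h3 using 1
      group
    have hzR : z ∈ normalizer (R' : Set X) := by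
      rw [map_conj_normalizer, mem_map_conj, mul_assoc, ← hk.eq, ← mul_assoc, inv_mul_cancel,
        one_mul]
      exact hR
    refine (R.isPGroup'.map _).to_le (sup_le hER ?_ : _ ≤ R')
    rintro _ ⟨x, hx, rfl⟩
    exact (mem_normalizer_iff.1 hzR x).1 (hER hx)
  · set M := N ⊓ N.map (MulAut.conj z).toMonoidHom with hM
    have hEM : E ≤ M := by
      let S : Sylow r M := default
      have hS : (S : Subgroup M).map M.subtype ≤ N := (map_subtype_le _).trans inf_le_left
      obtain ⟨P, hP⟩ := Coprime.exists_sylow_map_eq hS (p := r) (by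
        rw [Coprime.card_map_subtype, S.card_eq_multiplicity,
          factorization_card_eq inf_le_left hr.out hnd])
      haveI := (normal_subgroupOf_iff_le_normalizer hEN).2 hN
      have h := (hE.of_equiv (subgroupOfEquivOfLe hEN).symm).le_sylow_of_normal P
      have h' := Subgroup.map_mono (f := N.subtype) h
      rw [map_subgroupOf_eq_of_le hEN, hP] at h'
      exact h'.trans (map_subtype_le _)
    refine hE.to_sup_of_normal_left' (hE.map _) ?_
    rintro _ ⟨x, hx, rfl⟩
    exact hN ((mem_inf.1 ((mem_normalizer_iff.1 c.mem_normalizer_inf x).1 (hEM hx))).1)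

end Finite

end OddConfig

end CfsgLib.LocalEven.BenderTransitive
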