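import Cfsg.Agent.Lib.LocalEven.BenderTransitive.InvolutionIndex
import Cfsg.Agent.Lib.Involution.StronglyEmbedded

/-!
# Two-point stabilisers of a strongly embedded subgroup

`stab2 a b` is the stabiliser of two cosets and `mult H` the number of involutions fixing a
given coset.  Every two-point stabiliser permutes transitively the involutions fixing one of the
points, and those interchanging the two.
-/

set_option autoImplicit false

namespace CfsgLib.LocalEven.BenderTransitive

open Subgroup MulAction CfsgLib.Involution.Dihedral CfsgLib.Involution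

variable {G : Type*} [Group G] {H : Subgroup G}

/-- The stabiliser of two cosets. -/
abbrev stab2 (a b : G ⧸ H) : Subgroup G := stabilizer G a ⊓ stabilizer G b

/-- The number of involutions in `H`. -/
noncomputable def mult (H : Subgroup G) : ℕ := Nat.card {t : G // orderOf t = 2 ∧ t ∈ H}

theorem mem_stab2 {a b : G ⧸ H} {g : G} : g ∈ stab2 a b ↔ g • a = a ∧ g • b = b := Iff.rfl

theorem stab2_comm (a b : G ⧸ H) : stab2 a b = stab2 b a := inf_comm _ _

theorem smul_of_normalizes {Y : Subgroup G} {g : G} (hg : g ∈ normalizer (Y : Set G)) {x : G ⧸ H}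
    (hx : Y ≤ stabilizer G x) : Y ≤ stabilizer G (g • x) := fun y hy => by
  have h := hx (conj_inv_mem_of_mem_normalizer hg hy)
  rw [mem_stabilizer_iff, mul_smul, mul_smul, inv_smul_eq_iff] at h
  exact h

theorem swap_smul {u : G} {a b : G ⧸ H} (hu : orderOf u = 2) (hab : u • a = b) : u • b = a := by
  rw [← hab, smul_smul, mul_self hu, one_smul]

theorem swap_mem_normalizer {u : G} {a b : G ⧸ H} (hu : orderOf u = 2) (hab : u • a = b) :
    u ∈ normalizer (stab2 a b : Set G) := by
  have hba := swap_smul hu hab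
  have key : ∀ x ∈ stab2 a b, u * x * u⁻¹ ∈ stab2 a b := fun x hx => by
    rw [mem_stab2] at hx ⊢
    constructor
    · rw [inv_eq hu, mul_smul, mul_smul, hab, hx.2, hba]
    · rw [inv_eq hu, mul_smul, mul_smul, hba, hx.1, hab]
  refine mem_normalizer_iff.2 fun x => ⟨key x, fun h => ?_⟩
  have h2 := key _ h
  rw [inv_eq hu, show u * (u * x * u) * u = (u * u) * x * (u * u) by group, mul_self hu, one_mul,
    mul_one] at h2
  exact h2

variable [Finite G] (hH : Cfsg.IsStronglyEmbedded H)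

include hH

theorem smul_ne_of_ne {z : G} {e g : G ⧸ H} (hz : orderOf z = 2) (hze : z • e = e)
    (hne : g ≠ e) : z • g ≠ g :=
  fun h => hne (SE.fixed_unique hH hz h hze)

theorem odd_stab2 {a b : G ⧸ H} (hab : a ≠ b) : Odd (Nat.card (stab2 a b)) := by
  rw [← Nat.not_even_iff_odd]
  intro he
  obtain ⟨t, ht, ht2⟩ := Basic.exists_involution_of_even _ he
  exact hab (SE.fixed_unique hH ht2 ht.1 ht.2)

theorem centralizer_le_stabilizer {z : G} {e : G ⧸ H} (hz : orderOf z = 2) (hze : z • e = e) :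
    centralizer ({z} : Set G) ≤ stabilizer G e := fun _ hg =>
  SE.commute_fixes hH hz hze (mem_centralizer_singleton_iff.1 hg)

theorem card_involutions_fixing (x : G ⧸ H) :
    Nat.card {t : G // orderOf t = 2 ∧ t • x = x} = mult H := by
  induction x using QuotientGroup.induction_on with
  | H a =>
    refine Nat.card_congr (Equiv.subtypeEquiv (MulAut.conj a⁻¹).toEquiv fun t => ?_)
    rw [SE.fixes_mk_iff]
    change _ ↔ orderOf (a⁻¹ * t * a⁻¹⁻¹) = 2 ∧ a⁻¹ * t * a⁻¹⁻¹ ∈ H
    rw [orderOf_conj, inv_inv]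

theorem mult_pos : 0 < mult H := by
  obtain ⟨t, ht, ht2⟩ := Basic.exists_involution_of_even H hH.2.1
  haveI : Nonempty {t : G // orderOf t = 2 ∧ t ∈ H} := ⟨⟨t, ht2, ht⟩⟩
  exact Nat.card_pos

theorem exists_swap {a b : G ⧸ H} (hab : a ≠ b) : ∃ u : G, orderOf u = 2 ∧ u • a = b := by
  have h := mult_pos hH
  rw [mult, ← SE.card_swaps hH hab] at h
  exact nonempty_subtype.1 (Nat.card_pos_iff.1 h).1

/-- Inside a subgroup `N` containing involutions fixing `e` and `g` some involution interchanges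
`e` and `g`. -/
theorem exists_swap_mem {N : Subgroup G} {e g : G ⧸ H} (hne : e ≠ g) {z v : G}
    (hz : orderOf z = 2) (hze : z • e = e) (hv : orderOf v = 2) (hvg : v • g = g)
    (hzN : z ∈ N) (hvN : v ∈ N) :
    ∃ i ∈ N, orderOf i = 2 ∧ i • e = g ∧ i * z * i⁻¹ = v := by
  have hvne : v • e ≠ e := fun h => hne (SE.fixed_unique hH hv h hvg)
  have hzv : z ≠ v := fun h => hvne (h ▸ hze)
  obtain ⟨d, ⟨k, hk⟩, he⟩ := exists_conj_of_odd hz hv (SE.odd_mul hH hz hv hze hvne)
  simp only at hk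
  have hdz : d * z = z * (z * v) ^ (-k) := by
    rw [← hk]; exact zpow_mul_left (conj_mul_left hz hv) k
  refine ⟨d * z, mul_mem (hk ▸ zpow_mem (mul_mem hzN hvN) k) hzN, ?_, ?_, ?_⟩
  · rw [hdz]; exact reflection_orderOf hz hv hzv _
  · rw [mul_smul, hze]
    refine SE.fixed_unique hH hv ?_ hvg
    rw [← he, smul_smul, show d * z * d⁻¹ * d = d * z by group, mul_smul, hze]
  · rw [show d * z * z * (d * z)⁻¹ = d * z * d⁻¹ by group, he]

/-- Transitivity on the involutions fixing a point, inside a subgroup. -/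
theorem exists_conj_fixing_mem {N : Subgroup G} {e g : G ⧸ H} (hne : e ≠ g) {z z' v : G}
    (hz : orderOf z = 2) (hze : z • e = e) (hz' : orderOf z' = 2) (hze' : z' • e = e)
    (hv : orderOf v = 2) (hvg : v • g = g) (hzN : z ∈ N) (hzN' : z' ∈ N) (hvN : v ∈ N) :
    ∃ d ∈ N, d ∈ stab2 e g ∧ d * z * d⁻¹ = z' := by
  obtain ⟨i, hiN, hi, hie, hiz⟩ := exists_swap_mem hH hne hz hze hv hvg hzN hvN
  obtain ⟨j, hjN, hj, hje, hjz⟩ := exists_swap_mem hH hne hz' hze' hv hvg hzN' hvN
  refine ⟨j * i, mul_mem hjN hiN, mem_stab2.2 ⟨?_, ?_⟩, ?_⟩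
  · rw [mul_smul, hie, swap_smul hj hje]
  · rw [mul_smul, swap_smul hi hie, hje]
  · rw [show j * i * z * (j * i)⁻¹ = j * (i * z * i⁻¹) * j⁻¹ by group, hiz, ← hjz]
    calc j * (j * z' * j⁻¹) * j⁻¹ = (j * j) * z' * (j * j)⁻¹ := by group
      _ = z' := by rw [mul_self hj]; group

/-- A two-point stabiliser is transitive on the involutions fixing one of the points. -/
theorem exists_conj_fixing {a b : G ⧸ H} (hab : a ≠ b) {s t : G} (hs : orderOf s = 2)
    (hsa : s • a = a) (ht : orderOf t = 2) (hta : t • a = a) :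
    ∃ d ∈ stab2 a b, d * s * d⁻¹ = t := by
  obtain ⟨v, hv, hvb⟩ := SE.exists_involution_fixing hH b
  obtain ⟨d, -, hd, e⟩ := exists_conj_fixing_mem hH (N := ⊤) hab hs hsa ht hta hv hvb (mem_top _)
    (mem_top _) (mem_top _)
  exact ⟨d, hd, e⟩

/-- A two-point stabiliser is transitive on the involutions interchanging the points. -/
theorem exists_conj_swap {a b : G ⧸ H} (hab : a ≠ b) {u u' : G} (hu : orderOf u = 2)
    (hua : u • a = b) (hu' : orderOf u' = 2) (hua' : u' • a = b) :
    ∃ d ∈ stab2 a b, d * u * d⁻¹ = u' := by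
  have hmem : u * u' ∈ stab2 a b :=
    mem_stab2.2 ⟨by rw [mul_smul, hua', swap_smul hu hua],
      by rw [mul_smul, swap_smul hu' hua', hua]⟩
  obtain ⟨d, hd, e⟩ := exists_conj_of_odd hu hu'
    ((odd_stab2 hH hab).of_dvd_nat (orderOf_dvd_natCard _ hmem))
  exact ⟨d, zpowers_le.2 hmem hd, e⟩

omit hH [Finite G] in
/-- The index of a centraliser is the size of the orbit. -/
theorem relIndex_centralizer_eq {D : Subgroup G} {t : G} {P : G → Prop}
    (hinv : ∀ d ∈ D, P (d * t * d⁻¹)) (htr : ∀ s, P s → ∃ d ∈ D, d * t * d⁻¹ = s) :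
    (centralizer ({t} : Set G)).relIndex D = Nat.card {s // P s} := by
  set C := centralizer ({t} : Set G)
  have key : ∀ a b : D, (a : G) * t * (a : G)⁻¹ = (b : G) * t * (b : G)⁻¹ ↔
      (a : G)⁻¹ * b ∈ C := by
    intro a b
    rw [mem_centralizer_singleton_iff]
    constructor
    · intro h
      calc (a : G)⁻¹ * b * t = (a : G)⁻¹ * ((b : G) * t * (b : G)⁻¹) * b := by group
        _ = (a : G)⁻¹ * ((a : G) * t * (a : G)⁻¹) * b := by rw [h]
        _ = t * ((a : G)⁻¹ * b) := by group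
    · intro h
      calc (a : G) * t * (a : G)⁻¹ = (a : G) * (t * ((a : G)⁻¹ * b)) * (b : G)⁻¹ := by group
        _ = (a : G) * ((a : G)⁻¹ * b * t) * (b : G)⁻¹ := by rw [h]
        _ = (b : G) * t * (b : G)⁻¹ := by group
  let f : D ⧸ C.subgroupOf D → {s // P s} := fun q => Quotient.liftOn' q
    (fun d => ⟨_, hinv d d.2⟩) fun a b h => Subtype.ext <| by
      rw [QuotientGroup.leftRel_apply] at h
      exact (key a b).2 h
  refine Nat.card_eq_of_bijective f ⟨?_, ?_⟩
  · rintro ⟨a⟩ ⟨b⟩ h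
    exact QuotientGroup.eq.2 (mem_subgroupOf.2 ((key a b).1 (congrArg Subtype.val h)))
  · rintro ⟨s, hs⟩
    obtain ⟨d, hd, e⟩ := htr s hs
    exact ⟨QuotientGroup.mk ⟨d, hd⟩, Subtype.ext e⟩

theorem relIndex_swap {a b : G ⧸ H} (hab : a ≠ b) {u : G} (hu : orderOf u = 2)
    (hua : u • a = b) : (centralizer ({u} : Set G)).relIndex (stab2 a b) = mult H := by
  rw [relIndex_centralizer_eq (P := fun i => orderOf i = 2 ∧ i • a = b)
    (fun d hd => ⟨(orderOf_conj d u).trans hu, by
      rw [mul_smul, mul_smul, inv_smul_eq_iff.2 hd.1.symm, hua, hd.2]⟩)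
    (fun s hs => exists_conj_swap hH hab hu hua hs.1 hs.2), SE.card_swaps hH hab, mult]

theorem relIndex_fixing {a b : G ⧸ H} (hab : a ≠ b) {t : G} (ht : orderOf t = 2)
    (hta : t • a = a) : (centralizer ({t} : Set G)).relIndex (stab2 a b) = mult H := by
  rw [relIndex_centralizer_eq (P := fun i => orderOf i = 2 ∧ i • a = a)
    (fun d hd => ⟨(orderOf_conj d t).trans ht, by
      rw [mul_smul, mul_smul, inv_smul_eq_iff.2 hd.1.symm, hta, hd.1]⟩)
    (fun s hs => exists_conj_fixing hH hab ht hta hs.1 hs.2), card_involutions_fixing hH]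

/-- For `z` fixing `e` and `g ≠ e`, the groups `G_{e,g}` and `G_{g,zg}` have the same order. -/
theorem card_stab2_eq {z : G} {e g : G ⧸ H} (hz : orderOf z = 2) (hze : z • e = e)
    (hne : g ≠ e) : Nat.card (stab2 e g) = Nat.card (stab2 g (z • g)) := by
  set C := centralizer ({z} : Set G)
  have h : stab2 e g ⊓ C = stab2 g (z • g) ⊓ C := by
    ext x
    constructor
    · rintro ⟨hx, hxC⟩
      refine ⟨⟨hx.2, ?_⟩, hxC⟩
      show x • z • g = z • g
      rw [smul_smul, mem_centralizer_singleton_iff.1 hxC, mul_smul, hx.2]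
    · rintro ⟨hx, hxC⟩
      exact ⟨⟨centralizer_le_stabilizer hH hz hze hxC, hx.1⟩, hxC⟩
  have h1 := Coprime.card_mul_relIndex' (inf_le_left : stab2 e g ⊓ C ≤ stab2 e g)
  have h2 := Coprime.card_mul_relIndex' (inf_le_left : stab2 g (z • g) ⊓ C ≤ stab2 g (z • g))
  rw [inf_relIndex_left, relIndex_fixing hH hne.symm hz hze, h] at h1
  rw [inf_relIndex_left, relIndex_swap hH (smul_ne_of_ne hH hz hze hne).symm hz rfl] at h2
  rw [← h1, h2]

end CfsgLib.LocalEven.BenderTransitive
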