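import Cfsg.Agent.Lib.Coprime.Sylow
import Cfsg.Agent.Lib.Solvable.Cores
import Cfsg.Agent.Lib.Components.PComponents

/-!
# A containment in the `q'`-core for the proof of Bender's transitivity theorem

If a `p`-subgroup `E` and a `q`-subgroup `Q` of a solvable group `W` commute and the normaliser
of `Q` in the ambient group normalises `E`, then `E ≤ O_{q'}(W)`.
-/

set_option autoImplicit false

namespace CfsgLib.LocalEven.BenderTransitive

open Subgroup CfsgLib.Solvable
open scoped commutatorElement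

variable {X : Type*} [Group X] [Finite X]

theorem centralizer_pCore_le [Group.IsSolvable X] (q : ℕ) [Fact q.Prime]
    (h : Cfsg.pPrimeCore q X = ⊥) :
    centralizer (Cfsg.pCore q X : Set X) ≤ Cfsg.pCore q X := by
  have h1 := Cores.centralizer_fittingSubgroup_le (G := X)
  rwa [Cores.fittingSubgroup_eq_pCore q h] at h1

/-- The case of a solvable ambient group. -/
theorem le_pPrimeCore_of_normalizer_le_top [Group.IsSolvable X] {p q : ℕ} [Fact p.Prime]
    [Fact q.Prime] (hpq : p ≠ q) {E Q : Subgroup X} (hE : IsPGroup p E) (hQ : IsPGroup q Q)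
    (hEQ : ⁅E, Q⁆ = ⊥) (hN : normalizer (Q : Set X) ≤ normalizer (E : Set X)) :
    E ≤ Cfsg.pPrimeCore q X := by
  set O := Cfsg.pPrimeCore q X
  set π := QuotientGroup.mk' O
  set K := Cfsg.pCore q (X ⧸ O)
  have hKp : IsPGroup q K := Cores.isPGroup_pCore q
  have hEb : IsPGroup p (E.map π) := hE.map π
  have hQb : IsPGroup q (Q.map π) := hQ.map π
  have hdis : K ⊓ E.map π = ⊥ := disjoint_iff.1 (hKp.disjoint_of_ne q p hpq.symm K (E.map π) hEb)
  have hC : K ⊓ centralizer (Q.map π : Set (X ⧸ O)) ≤ centralizer (E.map π : Set (X ⧸ O)) := by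
    rintro k ⟨hk, hkc⟩
    obtain ⟨x, rfl⟩ := QuotientGroup.mk'_surjective O k
    have hcop : (Nat.card Q).Coprime (Nat.card O) := by
      obtain ⟨n, hn⟩ := hQ.exists_card_eq
      rw [hn]
      exact ((Cores.coprime_card_pPrimeCore q).pow_right n).symm
    obtain ⟨c, hc, hcx⟩ := Coprime.exists_centralizer_inv_mul_mem (A := Q) (K := ⊤) (N := O)
      (le_top.trans (normalizer_eq_top_iff.2 inferInstance).ge) le_top (le_top.trans (normalizer_eq_top_iff.2 inferInstance).ge) hcop
      (.inr inferInstance) (k := x) (mem_top x) (fun a ha => by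
        rw [← QuotientGroup.eq_one_iff]
        have h1 : π a * π x = π x * π a := mem_centralizer_iff.1 hkc (π a) ⟨a, ha, rfl⟩
        change π ⁅a, x⁆ = 1
        rw [map_commutatorElement, commutatorElement_eq_one_iff_mul_comm.2 h1])
    have hxc : π c = π x := (QuotientGroup.eq.2 hcx).symm
    refine mem_centralizer_iff.2 ?_
    rintro _ ⟨e, he, rfl⟩
    refine commutatorElement_eq_one_iff_mul_comm.1 ?_
    rw [← mem_bot, ← hdis]
    refine ⟨?_, ?_⟩
    · rw [commutatorElement_def]
      exact K.mul_mem (Normal.conj_mem (inferInstance : K.Normal) _ hk _) (K.inv_mem hk)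
    · refine ⟨⁅e, c⁆, ?_, by rw [map_commutatorElement, hxc]⟩
      have hcN : c ∈ normalizer (E : Set X) := hN (centralizer_le_normalizer _ hc.2)
      rw [commutatorElement_def, mul_assoc, mul_assoc, ← mul_assoc c e⁻¹]
      exact mul_mem he ((mem_normalizer_iff.1 hcN _).1 (inv_mem he))
  have hcopE : (Nat.card (E.map π)).Coprime q := by
    obtain ⟨n, hn⟩ := hEb.exists_card_eq
    rw [hn]
    exact ((Nat.coprime_primes Fact.out Fact.out).2 hpq).pow_left n
  have hPQ : ⁅Q.map π, E.map π⁆ = ⊥ := by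
    rw [← map_commutator, commutator_comm, hEQ, Subgroup.map_bot]
  have h1 : E.map π ≤ centralizer (K : Set (X ⧸ O)) :=
    Coprime.le_centralizer_of_prod hQb hcopE hPQ hKp (le_top.trans (normalizer_eq_top_iff.2 inferInstance).ge)
      (le_top.trans (normalizer_eq_top_iff.2 inferInstance).ge) hC
  have h2 : E.map π ≤ K :=
    h1.trans (centralizer_pCore_le q Components.pPrimeCore_quotient_eq_bot)
  have h3 : E.map π ≤ ⊥ := hdis ▸ le_inf h2 le_rfl
  rwa [le_bot_iff, Subgroup.map_eq_bot_iff, QuotientGroup.ker_mk'] at h3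

/-- If `N(Q)` normalises `E` and `[E, Q] = 1`, then `E` lies in `O_{q'}` of every solvable
subgroup containing `E` and `Q`. -/
theorem le_pPrimeCore_of_normalizer_le {p q : ℕ} [Fact p.Prime] [Fact q.Prime] (hpq : p ≠ q)
    {W E Q : Subgroup X} (hW : Group.IsSolvable W) (hE : IsPGroup p E) (hQ : IsPGroup q Q)
    (hEW : E ≤ W) (hQW : Q ≤ W) (hEQ : ⁅E, Q⁆ = ⊥)
    (hN : normalizer (Q : Set X) ≤ normalizer (E : Set X)) :
    E ≤ (Cfsg.pPrimeCore q W).map W.subtype := by
  have hcomm : ⁅E.subgroupOf W, Q.subgroupOf W⁆ = ⊥ := by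
    rw [← Subgroup.map_eq_bot_iff_of_injective _ W.subtype_injective, map_commutator,
      map_subgroupOf_eq_of_le hEW, map_subgroupOf_eq_of_le hQW, hEQ]
  have h := le_pPrimeCore_of_normalizer_le_top hpq (hE.of_equiv (subgroupOfEquivOfLe hEW).symm)
    (hQ.of_equiv (subgroupOfEquivOfLe hQW).symm) hcomm (by
      rw [← subgroupOf_normalizer_eq hEW, ← subgroupOf_normalizer_eq hQW]
      exact fun x hx => hN hx)
  have h' := Subgroup.map_mono (f := W.subtype) h
  rwa [map_subgroupOf_eq_of_le hEW] at h'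

/-- In the same situation `E` centralises every `q`-subgroup of `W` which it normalises. -/
theorem le_centralizer_of_normalized {p q : ℕ} [Fact p.Prime] [Fact q.Prime] (hpq : p ≠ q)
    {W E Q V : Subgroup X} (hW : Group.IsSolvable W) (hE : IsPGroup p E) (hQ : IsPGroup q Q)
    (hEW : E ≤ W) (hQW : Q ≤ W) (hEQ : ⁅E, Q⁆ = ⊥)
    (hN : normalizer (Q : Set X) ≤ normalizer (E : Set X)) (hV : IsPGroup q V) (hVW : V ≤ W)
    (hEV : E ≤ normalizer (V : Set X)) : E ≤ centralizer (V : Set X) := by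
  set O := (Cfsg.pPrimeCore q W).map W.subtype
  have hEO : E ≤ O := le_pPrimeCore_of_normalizer_le hpq hW hE hQ hEW hQW hEQ hN
  intro e he
  refine mem_centralizer_iff.2 fun v hv => commutatorElement_eq_one_iff_mul_comm.1 ?_
  have h1 : ⁅v, e⁆ ∈ V := by
    rw [commutatorElement_def, mul_assoc, mul_assoc, ← mul_assoc e v⁻¹]
    exact mul_mem hv ((mem_normalizer_iff.1 (hEV he) _).1 (inv_mem hv))
  have h2 : ⁅v, e⁆ ∈ O := by
    obtain ⟨e', he', rfl⟩ := hEO he
    refine ⟨⁅(⟨v, hVW hv⟩ : W), e'⁆, ?_, rfl⟩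
    rw [commutatorElement_def]
    exact mul_mem (Normal.conj_mem inferInstance _ he' _) (inv_mem he')
  have hcop : (Nat.card V).Coprime (Nat.card O) := by
    obtain ⟨n, hn⟩ := hV.exists_card_eq
    rw [hn, Coprime.card_map_subtype]
    exact ((Cores.coprime_card_pPrimeCore q).pow_right n).symm
  rw [← mem_bot, ← disjoint_iff.1 (disjoint_of_coprime_natCard hcop)]
  exact ⟨h1, h2⟩

end CfsgLib.LocalEven.BenderTransitive
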