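import Cfsg.Agent.Lib.LocalEven.BenderTransitive.Bad
import Cfsg.Agent.Lib.LocalEven.BenderTransitive.OddConfig

/-!
# The odd subgroups of a point stabiliser containing a two-point stabiliser
-/

set_option autoImplicit false

namespace CfsgLib.LocalEven.BenderTransitive

open Subgroup MulAction CfsgLib.Involution.Dihedral CfsgLib.Involution

variable {G : Type*} [Group G] [Finite G] {H : Subgroup G} (hH : Cfsg.IsStronglyEmbedded H)

include hH

/-- For a subgroup `N` of odd order with `G_{a,b} ≤ N ≤ G_a` and an involution `z` fixing `a`,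
each prime `r` either has a `z`-invariant Sylow subgroup in `G_a` or is prime to
`|N : N ∩ N^z|`. -/
theorem exists_sylow_or (hnt : ¬ PairTransitive H) {a b : G ⧸ H} (hab : a ≠ b) {N : Subgroup G}
    (hDN : stab2 a b ≤ N) (hNa : N ≤ stabilizer G a) (hN : Odd (Nat.card N)) {z : G}
    (hz : orderOf z = 2) (hza : z • a = a) (r : ℕ) [hr : Fact r.Prime] :
    (∃ T : Subgroup G, T ≤ stabilizer G a ∧
      Nat.card T = r ^ (Nat.card (stabilizer G a)).factorization r ∧
      z ∈ normalizer (T : Set G)) ∨
      ¬ r ∣ (N ⊓ N.map (MulAut.conj z).toMonoidHom).relIndex N := by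
  set M := N ⊓ N.map (MulAut.conj z).toMonoidHom with hM
  set C := centralizer ({z} : Set G)
  by_cases hdvd : r ∣ M.relIndex N
  swap
  · exact .inr hdvd
  left
  have hzb := smul_ne_of_ne hH hz hza hab.symm
  suffices hbad : Bad H r b (z • b) from
    exists_sylow_of_bad hH hnt hzb.symm hbad hz hza
  have hzM : z ∈ normalizer (M : Set G) := by
    refine mem_normalizer_iff.2 fun x => ?_
    simp only [hM, mem_inf, mem_map_conj]
    have e : z⁻¹ * (z * x * z⁻¹) * z = x := by group
    rw [e, inv_eq hz]
    tauto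
  -- the index of the centraliser in `N` is the number of involutions fixing `a`
  have hidx : C.relIndex N = mult H := by
    rw [relIndex_centralizer_eq (P := fun i => orderOf i = 2 ∧ i • a = a)
      (fun d hd => ⟨(orderOf_conj d z).trans hz, by
        rw [mul_smul, mul_smul, inv_smul_eq_iff.2 (hNa hd).symm, hza, hNa hd]⟩)
      (fun s hs => by
        obtain ⟨d, hd, e⟩ := exists_conj_fixing hH hab hz hza hs.1 hs.2
        exact ⟨d, hDN hd, e⟩), card_involutions_fixing hH]
  have hMC : N ⊓ C = M ⊓ C := by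
    refine le_antisymm (le_inf (le_inf inf_le_left ?_) inf_le_right) (inf_le_inf_right _ inf_le_left)
    rintro x ⟨hx, hxC⟩
    rw [mem_map_conj, mul_assoc, mem_centralizer_singleton_iff.1 hxC, ← mul_assoc,
      inv_mul_cancel, one_mul]
    exact hx
  have hlt : (C.relIndex M).factorization r < (mult H).factorization r := by
    have h := relIndex_mul_relIndex _ _ _ (inf_le_left : M ⊓ C ≤ M) (inf_le_left : M ≤ N)
    have hN' : (M ⊓ C).relIndex N = mult H := by rw [← hMC, inf_relIndex_left, hidx]
    rw [inf_relIndex_left M C, hN'] at h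
    have h1 := congrArg (fun k => k.factorization r) h
    simp only [Nat.factorization_mul (relIndex_ne_zero' C M) (relIndex_ne_zero' M N),
      Finsupp.add_apply] at h1
    have h2 := hr.out.factorization_pos_of_dvd (relIndex_ne_zero' M N) hdvd
    omega
  obtain ⟨P, hP, hPc, hPp, hzP⟩ := exists_inv_sylow (p := r) hz (odd_stab2 hH hzb.symm)
    (swap_mem_normalizer hz rfl)
  refine ⟨z, P, hz, rfl, hP, hPc, hzP, fun c hc hPfix => ?_⟩
  rw [← SE.fixed_unique hH hz hza hc] at hPfix
  have hPN : P ≤ N := (le_inf hPfix (le_stab2_iff.1 hP).1).trans hDN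
  have hPM : P ≤ M := le_inf hPN fun x hx =>
    mem_map_conj.2 (hPN (conj_inv_mem_of_mem_normalizer hzP hx))
  have hModd : Odd (Nat.card M) := hN.of_dvd_nat (card_dvd_of_le inf_le_left)
  obtain ⟨R, hPR, hRM, hRc, -, hzR⟩ := exists_inv_sylow_ge hz hModd hzM hPM hPp hzP
  have h := relIndex_mono C hPR
  rw [relIndex_sylow_swap hH hzb.symm hz rfl hP hPc hzP,
    relIndex_inv_sylow hz hModd hzM hRM hRc hzR, mpart] at h
  exact absurd ((Nat.pow_le_pow_iff_right hr.out.one_lt).1 h) (not_le.2 hlt)

end CfsgLib.LocalEven.BenderTransitive
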